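import Cfsg.Agent.Ah.FA
import Cfsg.Agent.Ah.UM
import Cfsg.Agent.S2272
import Cfsg.Agent.S2450

/-! Products of conjugacy classes in groups of Lie type: the assembly. -/

set_option autoImplicit false

namespace CF.Ah

open CF.Loc Cfsg

variable {p : ℕ} [Fact p.Prime] {G : Type*} [Group G] {a b c : G}

theorem not_class_psl (hG : IsPSLChar p G) (ha : a ≠ 1) (hb : b ≠ 1) :
    {g : G | ∃ u v : G, g = (u * a * u⁻¹) * (v * b * v⁻¹)} ≠ {g : G | IsConj c g} := fun h => by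
  obtain ⟨F, _, _, _, n, h2, h4, ⟨e⟩⟩ := hG
  have h1 : {g | ∃ u v, g = (u * e a * u⁻¹) * (v * e b * v⁻¹)} = {g | IsConj (e c) g} := by
    ext g
    obtain ⟨g, rfl⟩ := e.surjective g
    have := Set.ext_iff.1 h g
    simp only [Set.mem_setOf_eq, isConj_iff, e.surjective.exists, ← map_inv, ← map_mul,
      e.injective.eq_iff] at this ⊢
    exact this
  rcases h2.eq_or_lt with rfl | h3
  · exact Agent.S2450.result (h4 rfl) _ _ (by simpa using ha) (by simpa using hb) _ h1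
  · obtain ⟨g, k, h5⟩ := Agent.S2272.result n h3 (e a) (e b) (by simpa using ha) (by simpa using hb)
    exact h5 ((h1.le ⟨1, 1, by simp⟩ : IsConj _ _).symm.trans (h1.le ⟨g, k, rfl⟩))

theorem main_of [Finite G] (hV : HasSV p G) (hS : NoS p G) (hU : NoU p G) (ha : a ≠ 1) (hb : b ≠ 1)
    (hc : c ≠ 1) (h : {g : G | ∃ u v : G, g = (u * a * u⁻¹) * (v * b * v⁻¹)} = {g : G | IsConj c g}) :
    p ∣ orderOf c ∧ (¬ ∃ k : ℕ, orderOf c = p ^ k) ∧ (p ∣ orderOf a ∨ p ∣ orderOf b) ∧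
      ((¬ ∃ k : ℕ, orderOf a = p ^ k) ∨ (¬ ∃ k : ℕ, orderOf b = p ^ k)) := by
  have h0 : ∀ {x : G}, (∃ k : ℕ, orderOf x = p ^ k) → PE p x := fun h =>
    h.imp fun k hk => by rw [← hk, pow_orderOf_eq_one]
  have h1 : ¬ PE p c := fun h1 => hU a b ha hb ⟨c, hc, h1, by
    rintro _ _ ⟨g, -, rfl⟩ ⟨k, -, rfl⟩
    obtain ⟨m, hm⟩ := isConj_iff.1 (h.le ⟨g, k, rfl⟩)
    exact ⟨m, trivial, hm.symm⟩⟩
  refine ⟨by_contra fun h2 => ?_, mt h0 h1, by_contra fun h2 => ?_, by_contra fun h2 => h1 ?_⟩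
  · obtain ⟨h3, h4, h5⟩ := fac_of hV h (.inl h2)
    exact hS a b ha hb h3 h4 h5
  · obtain ⟨h3, h4, h5⟩ := fac_of hV h (.inr (not_or.1 h2))
    exact hS a b ha hb h3 h4 h5
  · rw [not_or, not_not, not_not] at h2
    obtain ⟨S, hS⟩ := exists_isSyl p (⊤ : Subgroup G)
    obtain ⟨g, -, h3⟩ := hS.exists_cj_le (UM.isPGroup_zpowers (h0 h2.1)) le_top
    obtain ⟨k, -, h4⟩ := hS.exists_cj_le (UM.isPGroup_zpowers (h0 h2.2)) le_top
    obtain ⟨m, hm⟩ := isConj_iff.1 (h.le ⟨g, k, rfl⟩)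
    have h5 := PE.of_mem hS.isPGroup (mul_mem (h3 ⟨a, Subgroup.mem_zpowers a, rfl⟩)
      (h4 ⟨b, Subgroup.mem_zpowers b, rfl⟩) : g * a * g⁻¹ * (k * b * k⁻¹) ∈ S)
    rw [← hm] at h5
    simpa [mul_assoc] using h5.conj m⁻¹

end CF.Ah
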