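import Cfsg.Agent.Ah.UE
import Cfsg.Agent.Ah.UW
import Cfsg.Agent.BN.LangS
import Cfsg.Agent.Chev.LTX

/-! Products of conjugacy classes: unipotent products in `F₄(2^k)`. -/

set_option autoImplicit false

namespace CF.Ah

open CF.BN CF.Chev CF.Loc Cfsg Cfsg.Lie UW UE

namespace U4

/-- The simple reflections of `F₄`. -/
def sg (i : Fin 4) (r : Fin 48) : Fin 48 := Fin.ofNat 48 (tabF4.sref i r)

theorem sref_eq (i : Fin 4) (r : Fin 48) : cF4.sref i r = sg i r :=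
  Fin.ext ((Nat.mod_eq_of_lt (cF4.sref i r).2).symm.trans (congrArg (· % 48) ((tabOf certF4).sref i r)))

/-- The word after a move. -/
def nx (l : List (Fin 4)) (m : ℕ) : List (Fin 4) :=
  (if m < 8 then [Fin.ofNat 4 m] else []) ++ l ++ if m / 4 = 1 then [] else [Fin.ofNat 4 m]

/-- A chain of moves. -/
def chn : List (Fin 4) → List ℕ → List (Fin 4 × List (Fin 4))
  | _, [] => []
  | l, m :: t => (Fin.ofNat 4 m, nx l m) :: chn (nx l m) t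

/-- The cells to be excluded along a folding word. -/
def bad : List (Fin 4) → List (Fin 4 × List ℕ) → List (List (Fin 4) × List ℕ)
  | _, [] => []
  | l, x :: t => (l ++ [x.1], x.2) :: bad (x.1 :: l ++ [x.1]) t

/-- The check. -/
abbrev Ck (θ : Fin 48) (D : List (Fin 48 × List (Fin 4) × List (Fin 4))) (w : List (Fin 4)) (s : List (List ℕ))
    (L : List (List (Fin 4 × List ℕ))) (V : List (List (Fin 4) × Fin 4)) : Prop :=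
  (∀ d ∈ D, cF4.Pos d.1 ∧ (∀ i ∉ d.2.1, cF4.vec d.1 i = 0) ∧ ev sg d.2.2 d.1 = θ ∧
    ∀ r, cF4.Pos r → (∀ i ∉ d.2.1, cF4.vec r i = 0) →
      d.1 ≠ cF4.neg r ∧ ∀ c ∈ chevF4.commTerms (r : Fin 48) d.1, 2 ∣ c.2.1) ∧
  (∀ j : Fin 4, (∃ d ∈ D, ev sg [j] d.1 = cF4.neg d.1) ∨ Ch cF4 sg [j] (chn [j] (s.getD j [])) w) ∧
  (∀ y ∈ L.flatMap (bad w), Ch cF4 sg y.1 (chn y.1 y.2) (y.2.foldl nx y.1) ∧
    ∃ d ∈ D, ev sg (y.2.foldl nx y.1) d.1 = cF4.neg d.1) ∧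
  (∀ m ∈ L.map (·.map Prod.fst), FW cF4 sg ((L.flatMap (bad w)).map Prod.fst) w m) ∧
  ∀ v ∈ V, Sm sg (v.1 ++ w ++ v.1.reverse) [v.2] ∧ ∀ r, cF4.Pos r →
    (∀ m ∈ L.map (·.map Prod.fst), cF4.Pos (ev sg m.reverse r)) → ev sg v.1 r = cF4.simple v.2

/-- Short roots. -/
def dS : List (Fin 48 × List (Fin 4) × List (Fin 4)) :=
  [(33, [0], [0, 1, 2, 1, 3, 2, 1]), (27, [1], [0, 1, 2, 1, 0, 3, 2]), (44, [0, 1, 2, 3], [])]

/-- Long roots. -/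
def dL : List (Fin 48 × List (Fin 4) × List (Fin 4)) :=
  [(25, [2], [3, 2, 1, 0, 2, 1, 3]), (24, [3], [3, 2, 1, 0, 2, 1, 2]), (47, [0, 1, 2, 3], [])]

theorem ckL : Ck 44 dS
    [3, 2, 1, 0, 2, 1, 3, 2, 3, 1, 2, 0, 1, 2, 3] [[], [], [1, 0, 3, 2, 1, 2, 3], [2, 1, 0, 2, 1, 2, 3]]
    [[(3, [6, 1, 0]), (2, [5, 10]), (1, [4, 9]), (0, [1, 8, 9]), (2, [5, 10]), (1, [0, 9, 8]), (2, [1, 2, 9, 10])],
      [(0, []), (1, []), (0, []), (2, [1, 0]), (1, []), (0, []), (2, [1, 0]), (1, []), (2, [1, 0]), (3, [6, 1, 0]),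
        (2, [5, 10]), (1, [4, 9]), (0, [1, 8, 9]), (2, [5, 10]), (1, [0, 9, 8]), (2, [1, 2, 9, 10])]]
    [([3, 1, 2, 0, 1, 2, 3], 2)] := by decide +kernel

theorem ckS : Ck 47 dL
    [0, 1, 2, 1, 3, 2, 1, 0, 1, 2, 3, 1, 2, 1, 0] [[1, 2, 1, 3, 2, 1, 0], [0, 2, 1, 3, 2, 1, 0], [], []]
    [[(0, [5, 2, 5]), (1, [6, 9]), (2, [7, 10]), (3, [2, 11, 10]), (2, []), (1, [6, 9]), (0, [1, 6, 5]),
        (2, [3, 10, 11])],
      [(1, [2, 3]), (2, []), (1, [2, 3]), (0, [5, 2, 5]), (2, []), (1, [6, 9]), (3, []), (2, [7, 10]),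
        (1, [2, 1, 10, 9]), (0, [1, 0, 2, 1, 10, 9]), (2, []), (1, [2]), (2, []), (3, [6, 11]), (2, [3, 10, 11])]]
    [([1, 2, 3, 1, 2, 1, 0], 0), ([2, 3, 0, 1, 2, 1, 0], 1)] := by decide +kernel

variable {K : Type*} [Field K] [CharP K 2] {G : Type*} [Group G] {ρ : StRep cF4 K G} {T : Tw ρ}
  {ω : Fin 48 → ℝ} {a b : G}

theorem cen {S : Set (Fin 48)} {δ : Fin 48}
    (h : ∀ r ∈ S, δ ≠ cF4.neg r ∧ ∀ c ∈ chevF4.commTerms (r : Fin 48) δ, 2 ∣ c.2.1) :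
    ∀ u ∈ ρ.U S, ∀ t, Commute u (ρ.x δ t) := fun _ hu t => Subgroup.mem_centralizer_singleton_iff.1
  (ρ.U_le_iff (H := Subgroup.centralizer {ρ.x δ t}).2 (fun r hr s => Subgroup.mem_centralizer_singleton_iff.2
    (commute_of_dvd (p := 2) linkF4 ρ.toPreSt (h r hr) s t)) hu)

omit [CharP K 2] in
theorem hs (f : ∀ i, T.p i = i) (i : Fin 4) (r : Fin 48) : T.S.s i r = sg i r := by
  rw [s_fix (S := T.S) (f i), sref_eq]

theorem tg (M : LT 2 T ⊤ ω) (f : ∀ i, T.p i = i) {θ D w s L V} (k : Ck θ D w s L V) {l : List (Fin 4)}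
    (h : ∃ d ∈ D, ev sg l d.1 = cF4.neg d.1) (x : WA ρ ⊤ a (wd T l)) : Opp 2 ρ ⊤ θ a :=
  let ⟨d, hd, e⟩ := h
  opp (hs f) M trivial x (k.1 d hd).1 (J := {i | i ∈ d.2.1}) (k.1 d hd).2.1
    (cen fun r hr => (k.1 d hd).2.2.2 r hr.1 hr.2) e _ (k.1 d hd).2.2.1

theorem core (M : LT 2 T ⊤ ω) (f : ∀ i, T.p i = i) {θ D w s L V} (k : Ck θ D w s L V) (hp : PE 2 a) (n : a ≠ 1)
    (h : ¬ Opp 2 ρ ⊤ θ a) : ∀ v ∈ V, ∃ t ≠ 0, Cj ⊤ a (ρ.x (cF4.simple v.2) t) := fun v hv => by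
  have ⟨_, k2, k3, k4, k5⟩ := k
  obtain ⟨j, hj⟩ := exists_wa_s M trivial hp n
  rw [← wd_one] at hj
  obtain ⟨y, hy, y1, c⟩ := blk1 (hs f) M trivial hp (List.forall_mem_map.2 fun y hy x =>
      h (tg M f k (k3 y hy).2 (ch (hs f) M trivial _ x (k3 y hy).1)))
    (ch (hs f) M trivial _ hj ((k2 j).resolve_left fun e => h (tg M f k e hj))) _ k4 v.1 (k5 v hv).1 fun r a b => by
      rw [(k5 v hv).2 r a b]
      exact ⟨cF4.pos_simple _, cF4.inSub_simple.2 (T.S.mem_orb_self _)⟩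
  obtain ⟨t, rfl⟩ := ρ.mem_X.1 (ρ.U_singleton (cF4.simple v.2) ▸ ρ.U_mono (fun r hr => by
    obtain ⟨_, rfl, e⟩ := RootSys.eq_simple_of_orth (J := {v.2}) (by simp) hr.1 (orb_fix (S := T.S) (f v.2) ▸ hr.2)
    exact e) hy.1)
  exact ⟨t, fun e => y1 (by rw [e, ρ.x_zero]), c⟩

theorem om_one [Fintype K] (S : St 2 T ⊤ ω a b) (hU : PU 2 ⊤ a b) (g : Gr T 1 1) (h0 : T.p = 1)
    (w : Equiv.Perm (Fin 48)) (h : Om ρ ⊤ a b w) : w = 1 := by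
  by_contra n
  obtain ⟨D, st, ⟨i, hi⟩, h1, h2⟩ := h.min S hU n
  have f : ∀ i, T.p i = i := fun i => by rw [h0]; rfl
  have ng := fun i hi => neg_fix (f i) (h2 i hi)
  have e : Nat.card {t : K // (1 : K →+* K) t = t} = Nat.card K :=
    Nat.card_congr (Equiv.subtypeUnivEquiv fun _ => rfl)
  have k0 : ∀ i, ∃ j, cF4.car i j = -1 := by simp only [carF4']; decide
  have q := (r2 S hU g (f i) ((k0 i).imp fun _ => .inl) h1 (ng i hi)).resolve_right fun c => by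
    have := FiniteField.even_card_of_char_two (ringChar.eq K 2)
    rw [← Nat.card_eq_fintype_card, ← e, c.1] at this
    omega
  obtain ⟨D, rfl⟩ := D.toFinite.exists_finset_coe
  have k : ∀ D : Finset (Fin 4), ∀ i ∈ D, (∃ i ∈ D, ∃ j ∈ D, cF4.car i j = -1 ∧ cF4.car j i = -1) ∨ D = {1, 2} ∨
      (∀ d ∈ D, ∀ e ∈ D, d ≠ e → cF4.car d e = 0) ∧ ∃ i ∈ D, ∃ j, cF4.car i j ≠ 0 ∧
        ∀ d ∈ D, cF4.car d j ≠ 0 → cF4.car d j = -1 ∧ cF4.car j d = -1 := by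
    simp only [carF4']; decide +kernel
  rcases k D i hi with ⟨i, hi, j, hj, c1, c2⟩ | rfl | ⟨o, i, hi, j, c1, c2⟩
  · exact no_adj S hU g q c1 c2 (f i) (f j) st.lg_mem_Wf (ng i hi) (ng j hj) h1
  · exact bl S hU g h0 (e ▸ q) (i := 1) (j := 2) (carF4' 1 2) (one_mem _) rfl rfl (by simpa using h1)
  · exact no_orth S hU g q (fun d _ => f d) o hi (f j) c1 c2 h1

theorem fin (M : LT 2 T ⊤ ω) (f : ∀ i, T.p i = i) (h : SC 2 ⊤ a b) (pa : PE 2 a) (pb : PE 2 b) (na : a ≠ 1)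
    (nb : b ≠ 1) (ha : ¬ Opp 2 ρ ⊤ 44 a) (hb : ¬ Opp 2 ρ ⊤ 47 b) : False := by
  obtain ⟨t, t0, ct⟩ := core M f ckL pa na ha _ (.head _)
  obtain ⟨u, -, cu⟩ := core M f ckS pb nb hb _ (.head _)
  obtain ⟨v, v0, cv⟩ := core M f ckS pb nb hb _ (.tail _ (.head _))
  obtain ⟨c, -, -, h⟩ := h
  have s : cF4.simple 2 = 25 ∧ cF4.simple 0 = 33 ∧ cF4.simple 1 = 27 := by decide +kernel
  simp only [s] at ct cu cv
  have sq : ∀ r t, ρ.x r t * ρ.x r t = 1 := fun r t => by rw [← ρ.x_add, CharTwo.add_self_eq_zero, ρ.x_zero]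
  obtain ⟨g, -, e⟩ := (h _ _ ct cu).symm.trans (h _ _ ct cv)
  have c1 : Commute (ρ.x 25 t) (ρ.x 33 u) := 
    cen (S := {25}) (by decide +kernel) _ (ρ.x_mem_U (Set.mem_singleton _) t) u
  have e2 : (ρ.x 25 t * ρ.x 27 v) ^ 2 = 1 := by
    rw [e, conj_pow, c1.mul_pow, pow_two, pow_two, sq, sq]; simp
  have e3 := (b2Q_F4 ρ).comm v t
  have e4 : ρ.x 25 t * ρ.x 27 v = ρ.x 27 v * ρ.x 25 t := by
    rw [eq_inv_of_mul_eq_one_left ((pow_two _).symm.trans e2), mul_inv_rev,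
      inv_eq_of_mul_eq_one_left (sq _ _), inv_eq_of_mul_eq_one_left (sq _ _)]
  rw [e4, left_eq_mul] at e3
  exact mul_ne_zero v0 t0 ((b2Q_F4 ρ).inj T.faith (α := 0) (β := 0) (δ := v ^ 2 * t) (α' := 0) (β' := 0) (δ' := 0)
    (by simp only [e3, ρ.x_zero, mul_one])).2.2.1

theorem main [Fintype K] (S : St 2 T ⊤ ω a b) (g : Gr T 1 1) (h0 : T.p = 1) : ¬ SC 2 ⊤ a b := fun h => by
  have o := om_one S h.pu g h0
  have f : ∀ i, T.p i = i := fun i => by rw [h0]; rfl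
  obtain ⟨pa, pb⟩ := pe_of_om S h.pu o
  have k : ∀ θ ∈ [44, 47], cF4.Pos θ ∧ ∀ r, cF4.Pos r →
      θ ≠ cF4.neg r ∧ ∀ c ∈ chevF4.commTerms (r : Fin 48) θ, 2 ∣ c.2.1 := by decide +kernel
  have n : ∀ θ ∈ [44, 47], Opp 2 ρ ⊤ θ a → ¬ Opp 2 ρ ⊤ θ b := fun θ hθ x y => by
    obtain ⟨w, w1, w2⟩ := om_opp S h.pu (k θ hθ).1 (cen (k θ hθ).2) x y
    exact cF4.self_ne_neg θ (by simpa [o w w1] using w2)
  have l : ∀ {a : G}, PE 2 a → a ≠ 1 → ¬ Opp 2 ρ ⊤ 44 a → Opp 2 ρ ⊤ 47 a := fun p n c => by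
    obtain ⟨j, hj⟩ := exists_wa_s S.lt trivial p n
    rw [← wd_one] at hj
    exact tg S.lt f ckS (((by decide +kernel : ∀ j, (∃ d ∈ dS, ev sg [j] d.1 = cF4.neg d.1) ∨
      ∃ d ∈ dL, ev sg [j] d.1 = cF4.neg d.1) j).resolve_left fun e => c (tg S.lt f ckL e hj)) hj
  by_cases c : Opp 2 ρ ⊤ 44 a
  · have c' := n 44 (by simp) c
    exact fin S.lt f (h.symm trivial) pb pa S.nb S.na c' fun x => n 47 (by simp) x (l pb S.nb c')
  · exact fin S.lt f h pa pb S.na S.nb c (n 47 (by simp) (l pa S.na c))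

end U4

theorem u_F42 {p : ℕ} [Fact p.Prime] (K : Type) [Field K] [Fintype K] [CharP K p] (h2 : p = 2) :
    NoU p (chevF4.group K) := by
  subst h2
  exact noU_good goodF4 K fun _ _ _ _ S g h => U4.main S g h

end CF.Ah
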