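import Cfsg.Agent.Ah.UA1
import Cfsg.Agent.Chev.ClsSp

/-! Levi subgroups over the field with two elements: type `B₂`. -/

set_option autoImplicit false

namespace CF.Ah.UA

open CF.BN CF.Chev CF.Loc Cfsg Cfsg.Lie Matrix

/-- Matrices of size four over `F₂`. -/
abbrev M4 := Matrix (Fin (2 * 2)) (Fin (2 * 2)) (ZMod 2)

/-- The generators. -/
def Tg : Fin 4 → M4 := ![!![1,1,0,0;0,1,0,0;0,0,1,1;0,0,0,1], !![1,0,0,0;0,1,1,0;0,0,1,0;0,0,0,1], !![1,0,0,0;1,1,0,0;0,0,1,0;0,0,1,1], !![1,0,0,0;0,1,0,0;0,1,1,0;0,0,0,1]]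

/-- The unipotent subgroup. -/
def Um (a b c d : ZMod 2) : M4 := !![1,a,b,c;0,1,d,b+a*d;0,0,1,a;0,0,0,1]

/-- The big cell. -/
def NU (a b c d : ZMod 2) : M4 := !![0,0,0,1;0,0,1,a;0,1,d,b+a*d;1,a,b,c]

theorem NU_eq : ∀ a b c d, NU 0 0 0 0 * Um a b c d = NU a b c d := by decide +kernel

theorem Um_step : ∀ r : RtO 1 (2 * 2), r.1.1 < r.1.2 → ∀ t a b c d : ZMod 2, ∃ a' b' c' d',
    Um a b c d * (1 + t • (TO 1 r.1.1 r.1.2).map (↑)) = Um a' b' c' d' := fun r hr t a b c d =>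
  let X := Um a b c d * (1 + t • (TO 1 r.1.1 r.1.2).map (↑))
  ⟨X 0 1, X 0 2, X 0 3, X 1 2, by revert r t a b c d; decide +kernel⟩

theorem fin4 {Y : Submonoid M4} (h : ∀ k, Tg k ∈ Y) (a b c d a' b' c' d' : ZMod 2)
    (H : ∀ M ∈ Y, ∀ M', M' * M = 1 → trace (NU a b c d * (M * NU a' b' c' d' * M')) = 0) : False := by
  have e0 := H !![0,0,1,1;1,1,1,1;0,0,0,1;0,1,1,0] ((by decide +kernel : Tg 0 * Tg 1 * Tg 2 * Tg 0 * Tg 3 = !![0,0,1,1;1,1,1,1;0,0,0,1;0,1,1,0]) ▸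
    (mul_mem (mul_mem (mul_mem (mul_mem (h 0) (h 1)) (h 2)) (h 0)) (h 3))) !![0,1,1,1;1,0,1,1;1,0,1,0;0,0,1,0] (by decide +kernel)
  have e1 := H !![1,0,0,0;1,0,1,0;1,1,1,0;1,1,0,1] ((by decide +kernel : Tg 1 * Tg 2 * Tg 3 * Tg 2 = !![1,0,0,0;1,0,1,0;1,1,1,0;1,1,0,1]) ▸
    (mul_mem (mul_mem (mul_mem (h 1) (h 2)) (h 3)) (h 2))) !![1,0,0,0;0,1,1,0;1,1,0,0;1,1,1,1] (by decide +kernel)
  have e2 := H !![1,0,0,1;1,1,0,1;0,1,1,0;0,1,1,1] ((by decide +kernel : Tg 0 * Tg 1 * Tg 0 * Tg 2 * Tg 3 = !![1,0,0,1;1,1,0,1;0,1,1,0;0,1,1,1]) ▸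
    (mul_mem (mul_mem (mul_mem (mul_mem (h 0) (h 1)) (h 0)) (h 2)) (h 3))) !![1,0,1,1;1,1,0,0;1,1,1,0;0,0,1,1] (by decide +kernel)
  have e3 := H !![1,1,0,0;0,1,0,0;0,1,1,1;0,0,0,1] ((by decide +kernel : Tg 0 * Tg 3 = !![1,1,0,0;0,1,0,0;0,1,1,1;0,0,0,1]) ▸
    (mul_mem (h 0) (h 3))) !![1,1,0,0;0,1,0,0;0,1,1,1;0,0,0,1] (by decide +kernel)
  have e4 := H !![0,0,1,0;1,0,0,0;0,0,0,1;0,1,1,0] ((by decide +kernel : Tg 0 * Tg 2 * Tg 0 * Tg 1 * Tg 3 = !![0,0,1,0;1,0,0,0;0,0,0,1;0,1,1,0]) ▸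
    (mul_mem (mul_mem (mul_mem (mul_mem (h 0) (h 2)) (h 0)) (h 1)) (h 3))) !![0,1,0,0;1,0,0,1;1,0,0,0;0,0,1,0] (by decide +kernel)
  have e5 := H 1 (one_mem _) 1 (one_mul _)
  have e6 := H !![1,0,0,0;0,1,1,0;0,0,1,0;0,0,0,1] ((by decide +kernel : Tg 1 = !![1,0,0,0;0,1,1,0;0,0,1,0;0,0,0,1]) ▸
    (h 1)) !![1,0,0,0;0,1,1,0;0,0,1,0;0,0,0,1] (by decide +kernel)
  clear H
  revert a b c d a' b' c' d'
  decide +kernel

variable {B ι : Type} [Fintype B] [DecidableEq B] [Fintype ι] [DecidableEq ι]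
  {C : ChevBasis B ι} {K : Type*} [Field K] {G : Type*} [Group G] {ρ : StRep C K G}
  {T : Tw ρ} {G1 : Subgroup G} {n l₁ l₂ : G} {m : Equiv.Perm ι} {i j : B}

theorem lg_b2 (h1 : C.car i j = -2) (h2 : C.car j i = -1) :
    C.wp [i, j, i, j] = lg C.toRootSys {i, j} := by
  have a (k l : B) : C.reflL (C.simple k) (C.vec (C.simple l)) =
      C.vec (C.simple l) - C.car k l • C.vec (C.simple k) := by
    rw [← C.vec_sref', C.vec_sref, C.A_simple_simple]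
  refine eq_lg (C.wp_mem_WJ (by simp)) fun k hk => ?_
  have : C.wp [i, j, i, j] (C.simple k) = C.neg (C.simple k) := C.vec_inj (by
    rcases hk with rfl | rfl <;>
    · simp only [RootSys.wp_cons, RootSys.wp_nil, mul_one, Equiv.Perm.mul_apply, RootSys.vec_sref', a,
        map_sub, map_smul, h1, h2, RootSys.car_self, RootSys.vec_neg]
      module)
  rw [this, C.pos_neg_iff]
  exact not_not.2 (C.pos_simple _)

theorem bl0 [Finite K] (Q : Q2 T G1 {i, j}) (hq : Nat.card K = 2) (k1 : C.car i j = -2)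
    (h5 : m (C.simple i) = C.simple i) (h6 : m (C.simple j) = C.simple j) (hn : n ∈ G1) (hn' : ρ.NW n m)
    (h1 : l₁ ∈ ρ.LJ {i, j} ⊓ G1) (h2 : l₂ ∈ ρ.LJ {i, j} ⊓ G1)
    (c1 : l₁ ∈ ρ.Cell (lg C.toRootSys {i, j})) (c2 : l₂ ∈ ρ.Cell (lg C.toRootSys {i, j})⁻¹)
    (h : ∀ g ∈ ρ.LJ {i, j} ⊓ G1, PE 2 (l₁ * (n * g * n⁻¹) * l₂ * g⁻¹)) : False := by
  have := Q.char
  have hij : i ≠ j := by rintro rfl; rw [C.car_self] at k1; omega
  have k2 : C.car j i = -1 := by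
    have a1 := C.A_mul_A_le (C.simple_injective.ne hij.symm) (C.simple_ne_neg j i)
    have a2 := C.car_nonpos hij.symm
    have a3 := C.car_eq_zero_comm i j
    rw [C.A_simple_simple, C.A_simple_simple, k1] at a1
    omega
  have : Fintype K := .ofFinite _
  have e : ZMod 2 ≃+* K := ZMod.ringEquivOfPrime K Nat.prime_two (Nat.card_eq_fintype_card.symm.trans hq)
  have u1 (t : Kˣ) : t = 1 := Units.ext (by
    obtain ⟨s, hs⟩ := e.surjective t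
    rcases z2 s with rfl | rfl
    · exact absurd (hs.symm.trans (map_zero e)) t.ne_zero
    · exact hs.symm.trans (map_one e))
  have hH : ρ.H ≤ ⊥ := ρ.H_le_iff.2 fun r t => by rw [u1 t, ρ.h_one]; exact one_mem _
  have hc (g) (hg : g ∈ ρ.LJ {i, j} ⊓ G1) : n * g * n⁻¹ = g := by
    obtain ⟨a, ha, z, hz, rfl⟩ := Q.dec (Y := Subgroup.centralizer {n}) (fun r hr => by
      have : m r = r := by
        obtain ⟨k, rfl | rfl, rfl | rfl⟩ := hr <;> simp only [C.neg_aut hn'.acts.1, h5, h6]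
      rw [Subgroup.mem_centralizer_singleton_iff, eq_comm, ← mul_inv_eq_iff_eq_mul,
        Q.conj hn hn'.acts hr (this.symm ▸ hr), this]) hg
    rw [Subgroup.mem_bot.1 (hH (il hz)), mul_one, ← Subgroup.mem_centralizer_singleton_iff.1 ha,
      mul_inv_cancel_right]
  have br (l) (hl : l ∈ ρ.LJ {i, j} ⊓ G1) (c : l ∈ ρ.Cell (lg C.toRootSys {i, j})) :
      ∃ u ∈ ρ.UL {i, j} ⊓ G1, ∃ u' ∈ ρ.UL {i, j} ⊓ G1, l = u * ρ.nw [i, j, i, j] * u' := by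
    obtain ⟨u, hu, z, -, w, -, a1, -, u', hu', rfl⟩ := Q.form.bruhat_LJ hl
    obtain rfl := StRep.cell_unique T.faith c ⟨u, ρ.Up_le_Bo (ρ.UL_le_Up _ (il hu)), z, a1, u',
      ρ.Up_le_Bo (ρ.UL_le_Up _ (il hu')), rfl⟩
    exact ⟨u, hu, u', hu', by
      rw [inv_mul_eq_one.1 (Subgroup.mem_bot.1 (hH ((StRep.nW_nw _).inv_mul_mem_H (lg_b2 k1 k2 ▸ a1))))]⟩
  obtain ⟨u, hu, u', hu', rfl⟩ := br _ h1 c1
  obtain ⟨y, hy, y', hy', rfl⟩ := br _ h2 (lg_inv (R := C.toRootSys) _ ▸ c2)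
  obtain ⟨E, hE⟩ := Emb.exists_of_diagram (C := cbC 2) (C' := C) ![i, j] (by
    simp only [Fin.forall_fin_two, cons_val_zero, cons_val_one, k1, k2, RootSys.car_self, cbC_car]
    decide)
  have er : Set.range ![i, j] = ({i, j} : Set B) := by simp [Set.pair_comm]
  obtain ⟨θ, hθ⟩ := StRep.exists_hom_of_tor (StRep.faithful_pull_res E T.faith connC hE) (StRep.res_Gp _)
    (StRep.r3_of_finite _) (r3_natC 2 K) fun c _ => by rw [show c = 1 from funext fun _ => u1 _, map_one]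
  let ψ : (ρ.pull E).Gp →* M4 :=
    (e.symm.toRingHom.mapMatrix.toMonoidHom.comp (Units.coeHom _)).comp θ
  have hψ (r t) : ψ ((ρ.pull E).res.x r t) = 1 + e.symm t • (TO 1 r.1.1 r.1.2).map (↑) := by
    have : ψ ((ρ.pull E).res.x r t) = e.symm.toRingHom.mapMatrix (1 + t • (TO 1 r.1.1 r.1.2).map (↑)) :=
      congrArg (fun z : GL _ K => e.symm.toRingHom.mapMatrix z.1) (hθ r t)
    rw [this, map_add, map_one]
    congr 1
    ext; simp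
  have hG : (ρ.pull E).Gp = ρ.GJ {i, j} := by
    rw [StRep.pull_Gp]; congr 1; ext u; exact er ▸ E.mem_range_iff hE
  have hU (v) (hv : v ∈ ρ.UL {i, j}) : ∃ z : (ρ.pull E).Gp, z.1 = v ∧ ∃ a b c d, ψ z = Um a b c d := by
    refine ⟨⟨v, hG ▸ StRep.UL_le_GJ hv⟩, rfl, ?_⟩
    refine (ρ.pull E).res.U_induction (S := {r | (cbC 2).Pos r}) (p := fun z => ∃ a b c d, ψ z = Um a b c d)
      ⟨0, 0, 0, 0, (map_one ψ).trans (by decide +kernel)⟩ ?_ ?_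
    · rintro g r t - hr ⟨a, b, c, d, hg⟩
      rw [map_mul, hg, hψ]
      exact Um_step r ((BaseO.cb_pos _ r).1 hr) _ a b c d
    · rw [StRep.codRestrict_U, Subgroup.mem_subgroupOf, StRep.pull_U]
      refine ρ.U_mono (fun r hr => ?_) hv
      obtain ⟨s, rfl⟩ := (E.mem_range_iff hE).2 (er ▸ hr.2)
      exact ⟨s, (E.pos_iff hE).1 hr.1, rfl⟩
  obtain ⟨v, hv, a, b, c, d, ev⟩ := hU _ (mul_mem (il hu') (il hu))
  obtain ⟨v', hv', a', b', c', d', ev'⟩ := hU _ (mul_mem (il hy') (il hy))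
  let t : Fin 4 → (ρ.pull E).Gp := ![(ρ.pull E).res.x ((cbC 2).simple 0) 1,
    (ρ.pull E).res.x ((cbC 2).simple 1) 1, (ρ.pull E).res.x ((cbC 2).neg ((cbC 2).simple 0)) 1,
    (ρ.pull E).res.x ((cbC 2).neg ((cbC 2).simple 1)) 1]
  have t0 : (t 0).1 = ρ.x (C.simple i) 1 := (StRep.pull_x_simple _ _ _ _).trans (by rw [hE]; rfl)
  have t1 : (t 1).1 = ρ.x (C.simple j) 1 := (StRep.pull_x_simple _ _ _ _).trans (by rw [hE]; rfl)
  have t2 : (t 2).1 = ρ.x (C.neg (C.simple i)) 1 :=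
    (StRep.pull_x_neg_simple _ _ _ _).trans (by rw [hE]; rfl)
  have t3 : (t 3).1 = ρ.x (C.neg (C.simple j)) 1 :=
    (StRep.pull_x_neg_simple _ _ _ _).trans (by rw [hE]; rfl)
  have ht (k) : ψ (t k) = Tg k := by
    fin_cases k <;> exact (hψ _ _).trans (by rw [map_one]; decide +kernel)
  have hm (k) : (t k).1 ∈ G1 := by
    fin_cases k
    exacts [t0 ▸ Q.one (rt_pos (by simp)), t1 ▸ Q.one (rt_pos (by simp)), t2 ▸ Q.one (rt_neg (by simp)),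
      t3 ▸ Q.one (rt_neg (by simp))]
  let z := t 0 * t 2 * t 0 * (t 1 * t 3 * t 1 * (t 0 * t 2 * t 0 * (t 1 * t 3 * t 1)))
  have z1 : z.1 = ρ.nw [i, j, i, j] := by
    simp only [z, Subgroup.coe_mul, t0, t1, t2, t3, StRep.nw_cons, StRep.nw_nil, mul_one, PreSt.n, inv_one,
      Units.val_one, CharTwo.neg_eq]
  have z2 : ψ z = NU 0 0 0 0 := by
    simp only [z, map_mul, ht]
    have : Tg 0 * Tg 2 * Tg 0 = !![0,1,0,0;1,0,0,0;0,0,0,1;0,0,1,0] ∧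
      Tg 1 * Tg 3 * Tg 1 = !![1,0,0,0;0,0,1,0;0,1,0,0;0,0,0,1] := by decide +kernel
    rw [this.1, this.2]
    decide +kernel
  refine fin4 (Y := (G1.subgroupOf _).toSubmonoid.map ψ) (fun k => ⟨t k, hm k, ht k⟩) a b c d a' b' c' d' ?_
  rintro _ ⟨k, hk, rfl⟩ M' hM
  have hg : u * k * y⁻¹ ∈ ρ.LJ {i, j} ⊓ G1 := mul_mem (mul_mem (im (ρ.UL_le_LJ _ (il hu)) (ir hu))
    (im (StRep.GJ_le_LJ (hG ▸ k.2)) hk)) (inv_mem (im (ρ.UL_le_LJ _ (il hy)) (ir hy)))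
  obtain ⟨s, hs⟩ := (h _ hg).conj u⁻¹
  have : (z * v * (k * (z * v') * k⁻¹)) ^ 2 ^ s = 1 := Subtype.ext (by
    refine Eq.trans ?_ hs
    simp only [Subgroup.coe_mul, Subgroup.coe_pow, Subgroup.coe_inv, z1, hv, hv', hc _ hg]
    congr 1
    group)
  have := tr_pe (k := s) ((map_pow ψ _ _).symm.trans ((congrArg ψ this).trans (map_one ψ)))
  clear_value z
  rw [map_mul, map_mul, map_mul, map_mul, map_mul, z2, ev, ev', NU_eq, NU_eq,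
    ← left_inv_eq_right_inv hM (by rw [← map_mul, mul_inv_cancel, map_one] : ψ k * ψ k⁻¹ = 1)] at this
  exact this.trans (by decide +kernel)

end CF.Ah.UA
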