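import Cfsg.Agent.Ah.UL
import Cfsg.Agent.Ah.UA2

/-! Levi subgroups over the field with two elements. -/

set_option autoImplicit false

namespace CF.Ah

open CF.BN CF.Chev CF.Loc Cfsg Cfsg.Lie

variable {B ι : Type} [Fintype B] [DecidableEq B] [Fintype ι] [DecidableEq ι]
  {C : ChevBasis B ι} {K : Type*} [Field K] {G : Type*} [Group G] {ρ : StRep C K G}
  {T : Tw ρ} {G1 : Subgroup G} {ω : ι → ℝ} {a b : G} {w m : Equiv.Perm ι} {i j : B} {φ : K →+* K} {c : Kˣ}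

theorem al (S : St 2 T G1 ω a b) (hU : PU 2 G1 a b) (g : Gr T φ c) (hq : Nat.card {t : K // φ t = t} = 2)
    {l : ℕ} (hl : 2 ≤ l) {e : Fin l → B} (h1 : ∀ s t, C.car (e s) (e t) = (cbA l).car s t)
    (h2 : ∀ s, T.p (e s) = e s) (hw : w ∈ C.WJ (Set.range e)) (hw' : w ≠ 1) (hm : m ∈ T.S.Wf)
    (hm' : ∀ s, m (C.simple (e s)) = C.simple (e s)) : ¬ Om ρ G1 a b (w * m) := fun h => by
  have Q : UA.Q2 T G1 (Set.range e) := UA.q2 S.lt g hq (by rintro _ ⟨s, rfl⟩; exact h2 s)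
  obtain ⟨n, hn, hn', l₁, a1, l₂, a2, c1, c2, H⟩ := h.levi S hU Q.stab (Q.wf hw) hm (by
    rintro _ ⟨s, rfl⟩; exact ⟨_, ⟨s, rfl⟩, hm' s⟩)
  exact UA.al0 Q S.lt.r3 hl h1 hw' hm' hn hn' a1 a2 c1 c2 H

theorem ta (S : St 2 T G1 ω a b) (hU : PU 2 G1 a b) (g : Gr T φ c) (hq : Nat.card {t : K // φ t = t} = 2)
    (h1 : C.car i j = -1) (h2 : C.car j i = -1) (h3 : T.p i = i) (h4 : T.p j = j) (hw : w ∈ C.WJ {i, j})
    (hm : m ∈ T.S.Wf) (h5 : m (C.simple i) = C.simple j) (h6 : m (C.simple j) = C.simple i) :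
    ¬ Om ρ G1 a b (w * m) := fun h => by
  have Q : UA.Q2 T G1 {i, j} := UA.q2 S.lt g hq (by rintro _ (rfl | rfl); exacts [h3, h4])
  obtain ⟨n, hn, hn', l₁, a1, l₂, a2, -, -, H⟩ := h.levi S hU Q.stab (Q.wf hw) hm (by
    rintro _ (rfl | rfl); exacts [⟨_, .inr rfl, h5⟩, ⟨_, .inl rfl, h6⟩])
  exact UA.ta0 Q S.lt.r3 h1 h2 h5 h6 hn hn' a1 a2 H

theorem bl (S : St 2 T G1 ω a b) (hU : PU 2 G1 a b) (g : Gr T φ c) (h0 : T.p = 1) (hq : Nat.card K = 2)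
    (h1 : C.car i j = -2) (hm : m ∈ T.S.Wf) (h5 : m (C.simple i) = C.simple i)
    (h6 : m (C.simple j) = C.simple j) : ¬ Om ρ G1 a b (lg C.toRootSys {i, j} * m) := fun h => by
  have := S.lt.fin
  have Q : UA.Q2 T G1 {i, j} := UA.q2 S.lt g ((Nat.card_congr (Equiv.subtypeUnivEquiv fun t => by
    rw [(g.triv h0).1]; rfl)).trans hq) fun k _ => by rw [h0]; rfl
  obtain ⟨n, hn, hn', l₁, a1, l₂, a2, c1, c2, H⟩ := h.levi S hU Q.stab (Q.wf (lg_mem _)) hm (by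
    rintro _ (rfl | rfl); exacts [⟨_, .inl rfl, h5⟩, ⟨_, .inr rfl, h6⟩])
  exact UA.bl0 Q hq h1 h5 h6 hn hn' a1 a2 c1 c2 H

end CF.Ah
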