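import Cfsg.Agent.Ah.UA0
import Cfsg.Agent.Chev.Thom
import Cfsg.Agent.S2272
import Cfsg.Agent.Classical.Linear

/-! Levi subgroups over the field with two elements: type `A`. -/

set_option autoImplicit false

namespace CF.Ah.UA

open CF.BN CF.Chev CF.Loc Cfsg Cfsg.Lie Matrix

variable {B ι : Type} [Fintype B] [DecidableEq B] [Fintype ι] [DecidableEq ι]
  {C : ChevBasis B ι} {K : Type*} [Field K] {G : Type*} [Group G] {ρ : StRep C K G}
  {T : Tw ρ} {G1 Y : Subgroup G} {ω : ι → ℝ} {J : Set B} {n g h l₁ l₂ : G}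
  {w m : Equiv.Perm ι} {i j : B} {r : ι} {l : ℕ} {e : Fin l → B}

/-- `SL` over `F₂`. -/
abbrev S2 (l : ℕ) := Matrix.SpecialLinearGroup (Fin (l + 1)) (ZMod 2)

/-- The upper generators. -/
abbrev tp (s : Fin l) : S2 l := SpecialLinearGroup.transvection s.castSucc_lt_succ.ne 1

/-- The lower generators. -/
abbrev tn (s : Fin l) : S2 l := SpecialLinearGroup.transvection s.castSucc_lt_succ.ne' 1

theorem z2 (t : ZMod 2) : t = 0 ∨ t = 1 := by revert t; decide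

theorem ext2 {f f' : S2 l →* G} (h : ∀ s, f (tp s) = f' (tp s)) (h' : ∀ s, f (tn s) = f' (tn s)) :
    f = f' := StRep.hom_ext_SL
  (fun s t => by rcases z2 t with rfl | rfl; exacts [by simp, h s])
  (fun s t => by rcases z2 t with rfl | rfl; exacts [by simp, h' s])

theorem tr_pe {I : Type} [Fintype I] [DecidableEq I] {A : Matrix I I (ZMod 2)} {k : ℕ}
    (h : A ^ 2 ^ k = 1) : trace A = trace (1 : Matrix I I (ZMod 2)) := by
  rw [← h]
  clear h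
  induction k with
  | zero => simp
  | succ k ih => rw [pow_succ, pow_mul, ZMod.trace_pow_card, ZMod.pow_card, ih]

/-- The Levi factor as an image of `SL` over `F₂`. -/
structure F2 (ρ : StRep C K G) (G1 : Subgroup G) (e : Fin l → B) (f : S2 l →* G) : Prop where
  pos : ∀ s, f (tp s) = ρ.x (C.simple (e s)) 1
  neg : ∀ s, f (tn s) = ρ.x (C.neg (C.simple (e s))) 1
  mem : ∀ A, f A ∈ ρ.LJ (Set.range e) ⊓ G1

variable (Q : Q2 T G1 (Set.range e)) {f : S2 l →* G}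
include Q

theorem exists_f2 (h3 : ρ.R3) (hl : 1 ≤ l) (h1 : ∀ s t, C.car (e s) (e t) = (cbA l).car s t) :
    ∃ f, F2 ρ G1 e f := by
  have := Q.char
  obtain ⟨φ, hφ⟩ := h3.exists_isA hl h1
  have k (a b : Fin (l + 1)) (h : a ≠ b) : SpecialLinearGroup.map (ZMod.castHom (dvd_refl 2) K)
      (SpecialLinearGroup.transvection h 1) = SpecialLinearGroup.transvection h 1 := by
    ext x y
    show ZMod.castHom (dvd_refl 2) K ((1 + single a b 1 : Matrix _ _ (ZMod 2)) x y) =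
      (1 + single a b 1 : Matrix _ _ K) x y
    simp only [Matrix.add_apply, one_apply, single_apply, map_add]
    split_ifs <;> simp
  let f := φ.comp (SpecialLinearGroup.map (ZMod.castHom (dvd_refl 2) K))
  have p (s) : f (tp s) = ρ.x (C.simple (e s)) 1 := (congrArg φ (k _ _ _)).trans (hφ.pos s 1)
  have q (s) : f (tn s) = ρ.x (C.neg (C.simple (e s))) 1 := (congrArg φ (k _ _ _)).trans (hφ.neg s 1)
  refine ⟨f, p, q, fun A => im (StRep.GJ_le_LJ (hφ.range ▸ ⟨_, rfl⟩)) ?_⟩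
  have : (slRep l (ZMod 2)).Gp ≤ G1.comap f := (slRep l (ZMod 2)).U_simple ▸ (PreSt.U_le_iff _).2 (by
    rintro _ ⟨s, rfl | rfl⟩ t <;> rcases z2 t with rfl | rfl
    · simp
    · exact (p s ▸ Q.one (rt_pos ⟨s, rfl⟩) : f (tp s) ∈ G1)
    · simp
    · exact (q s ▸ Q.one (rt_neg ⟨s, rfl⟩) : f (tn s) ∈ G1))
  exact this (slRep_Gp l (ZMod 2) ▸ Subgroup.mem_top A)

variable (F : F2 ρ G1 e f)
include F

theorem comm (hn : n ∈ G1) (h : ρ.Acts n m) (hm : ∀ s, m (C.simple (e s)) = C.simple (e s)) (A : S2 l) :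
    n * f A * n⁻¹ = f A := by
  refine DFunLike.congr_fun (ext2 (f := (MulAut.conj n).toMonoidHom.comp f) (f' := f) (fun s => ?_)
    fun s => ?_) A
  · show n * f _ * n⁻¹ = f _
    rw [F.pos, Q.conj hn h (rt_pos ⟨s, rfl⟩) ((hm s).symm ▸ rt_pos ⟨s, rfl⟩), hm]
  · show n * f _ * n⁻¹ = f _
    have := (C.neg_aut h.1 (C.simple (e s))).trans (congrArg C.neg (hm s))
    rw [F.neg, Q.conj hn h (rt_neg ⟨s, rfl⟩) (this.symm ▸ rt_neg ⟨s, rfl⟩), this]

theorem commH (hh : h ∈ ρ.H ⊓ G1) (A : S2 l) : Commute h (f A) :=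
  mul_inv_eq_iff_eq_mul.1 (comm Q F (ir hh) (StRep.acts_of_mem_H (il hh)) (fun _ => rfl) A)

theorem inj (hl : 2 ≤ l) {A : S2 l} (h : f A ∈ ρ.H) : A = 1 := by
  have hc : Subgroup.center (S2 l) = ⊥ :=
    Subgroup.card_eq_one.1 ((CF.Classical.card_center_SL (ZMod 2)).trans (by simp))
  have := CF.Classical.isSimpleGroup_PSL_of_three_le (ι := Fin (l + 1)) (F := ZMod 2) (by simpa using hl)
  have := ((QuotientGroup.quotientMulEquivOfEq hc).trans QuotientGroup.quotientBot).symm.isSimpleGroup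
  have N : (ρ.H.comap f).Normal := ⟨fun a ha b => by
    rw [Subgroup.mem_comap, map_mul, map_mul, ← (commH Q F (im ha (ir (F.mem a))) b).eq, map_inv,
      mul_inv_cancel_right]
    exact ha⟩
  rcases N.eq_bot_or_eq_top with e | e
  · exact Subgroup.mem_bot.1 (e ▸ h)
  · have : f (tn ⟨0, by omega⟩) ∈ ρ.H := (e ▸ Subgroup.mem_top _ : _ ∈ ρ.H.comap f)
    rw [F.neg] at this
    exact absurd (C.pos_simple _)
      ((C.pos_neg_iff _).1 ((StRep.x_mem_Bo_iff T.faith one_ne_zero).1 (ρ.H_le_Bo this)))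

theorem dec (hg : g ∈ ρ.LJ (Set.range e) ⊓ G1) : ∃ A, ∃ h ∈ ρ.H ⊓ G1, g = f A * h := by
  obtain ⟨_, ⟨A, rfl⟩, h, hh, e⟩ := Q.dec (Y := f.range) (by
    rintro _ ⟨_, ⟨s, rfl⟩, rfl | rfl⟩
    exacts [⟨_, F.pos s⟩, ⟨_, F.neg s⟩]) hg
  exact ⟨A, h, hh, e⟩

/-- The reduction to matrices. -/
theorem red (hl : 2 ≤ l) (h1 : l₁ ∈ ρ.LJ (Set.range e) ⊓ G1) (h2 : l₂ ∈ ρ.LJ (Set.range e) ⊓ G1)
    (h : ∀ g ∈ ρ.LJ (Set.range e) ⊓ G1, PE 2 (l₁ * (n * g * n⁻¹) * l₂ * g⁻¹)) :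
    ∃ A A' : S2 l, (A = 1 → l₁ ∈ ρ.H) ∧ (A' = 1 → l₂ ∈ ρ.H) ∧ ∀ M M', n * f M * n⁻¹ = f M' →
      trace (A.1 * M'.1 * A'.1 * (M⁻¹).1) = trace (1 : Matrix (Fin (l + 1)) (Fin (l + 1)) (ZMod 2)) := by
  obtain ⟨A, a, ha, rfl⟩ := dec Q F h1
  obtain ⟨A', b, hb, rfl⟩ := dec Q F h2
  refine ⟨A, A', by rintro rfl; simpa using il ha, by rintro rfl; simpa using il hb, fun M M' e => ?_⟩
  obtain ⟨k, hk⟩ := h _ (F.mem M)
  have e1 : f A * a * f M' * (f A' * b) * (f M)⁻¹ = f (A * M' * A' * M⁻¹) * (a * b) := by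
    have c1 := (commH Q F ha (M' * A' * M⁻¹)).eq
    have c2 := (commH Q F hb M⁻¹).eq
    simp only [map_mul, map_inv] at c1 c2 ⊢
    calc _ = f A * a * f M' * f A' * (b * (f M)⁻¹) := by group
      _ = f A * (a * (f M' * f A' * (f M)⁻¹)) * b := by rw [c2]; group
      _ = _ := by rw [c1]; group
  have hab := mul_mem ha hb
  rw [e, e1, (commH Q F hab _).symm.mul_pow, ← map_pow, mul_eq_one_iff_eq_inv] at hk
  exact tr_pe (k := k) (congrArg Subtype.val (inj Q F hl (hk ▸ inv_mem (pow_mem (il hab) _))))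

omit F in
theorem al0 (h3 : ρ.R3) (hl : 2 ≤ l) (h0 : ∀ s t, C.car (e s) (e t) = (cbA l).car s t) (hw : w ≠ 1)
    (hm : ∀ s, m (C.simple (e s)) = C.simple (e s)) (hn : n ∈ G1) (hn' : ρ.NW n m)
    (h1 : l₁ ∈ ρ.LJ (Set.range e) ⊓ G1) (h2 : l₂ ∈ ρ.LJ (Set.range e) ⊓ G1) (c1 : l₁ ∈ ρ.Cell w)
    (c2 : l₂ ∈ ρ.Cell w⁻¹)
    (h : ∀ g ∈ ρ.LJ (Set.range e) ⊓ G1, PE 2 (l₁ * (n * g * n⁻¹) * l₂ * g⁻¹)) : False := by
  obtain ⟨f, F⟩ := exists_f2 Q h3 (by omega) h0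
  obtain ⟨A, A', a1, a2, ht⟩ := red Q F hl h1 h2 h
  have ns (X : S2 l) (hX : X ≠ 1) (c : ZMod 2) : X.1 ≠ c • 1 := fun e => by
    rcases z2 c with rfl | rfl
    · have := X.2
      rw [e, zero_smul, det_zero] at this
      exact zero_ne_one this
    · exact hX (Subtype.ext (by simpa using e))
  obtain ⟨_, ⟨g, hg, rfl⟩, e⟩ := Cfsg.Agent.S2272.tr_surj (by simpa using hl)
    (ns A fun e => hw (StRep.cell_unique T.faith c1 (StRep.mem_cell_one.2 (ρ.H_le_Bo (a1 e)))))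
    (ns A' fun e => hw (inv_eq_one.1
      (StRep.cell_unique T.faith c2 (StRep.mem_cell_one.2 (ρ.H_le_Bo (a2 e))))))
    (trace (1 : Matrix (Fin (l + 1)) (Fin (l + 1)) (ZMod 2)) + 1)
  let M : S2 l := ⟨g, CF.MaxSub.mem_specialLinear.1 hg⟩
  have e3 : (M⁻¹).1 = ((g⁻¹ : GL _ _) : Matrix _ _ (ZMod 2)) :=
    (inv_eq_right_inv (congrArg Subtype.val (mul_inv_cancel M))).symm.trans (coe_units_inv g).symm
  have := ht M M (comm Q F hn hn'.acts hm M)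
  rw [e3, mul_assoc, mul_assoc, ← mul_assoc M.1] at this
  exact one_ne_zero (add_eq_left.1 (e.symm.trans this))

omit Q F in
theorem sum0 (A : Matrix (Fin 3) (Fin 3) (ZMod 2)) : ∑ k ∈ Finset.range 7,
    (!![1,1,0;1,0,1;0,1,0] : Matrix _ _ (ZMod 2)) ^ k * A * !![0,1,0;1,0,1;0,1,1] ^ k = 0 := by
  induction A using Matrix.induction_on' with
  | h_zero => simp
  | h_add p q hp hq => simp only [mul_add, add_mul, Finset.sum_add_distrib, hp, hq, add_zero]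
  | h_std_basis i j x => revert i j x; decide +kernel

omit Q F in
theorem ta0 (Q : Q2 T G1 {i, j}) (h3 : ρ.R3) (k1 : C.car i j = -1) (k2 : C.car j i = -1)
    (h5 : m (C.simple i) = C.simple j) (h6 : m (C.simple j) = C.simple i) (hn : n ∈ G1) (hn' : ρ.NW n m)
    (h1 : l₁ ∈ ρ.LJ {i, j} ⊓ G1) (h2 : l₂ ∈ ρ.LJ {i, j} ⊓ G1)
    (h : ∀ g ∈ ρ.LJ {i, j} ⊓ G1, PE 2 (l₁ * (n * g * n⁻¹) * l₂ * g⁻¹)) : False := by
  have er : ({i, j} : Set B) = Set.range ![i, j] := by simp [Set.pair_comm]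
  rw [er] at Q h1 h2 h
  obtain ⟨f, F⟩ := exists_f2 (l := 2) Q h3 one_le_two (by
    simp only [Fin.forall_fin_two, cons_val_zero, cons_val_one, k1, k2, RootSys.car_self]
    decide)
  obtain ⟨A, A', -, -, ht⟩ := red Q F le_rfl h1 h2 h
  have a := hn'.acts
  have p0 : Rt C (Set.range ![i, j]) (C.simple i) := rt_pos ⟨0, rfl⟩
  have p1 : Rt C (Set.range ![i, j]) (C.simple j) := rt_pos ⟨1, rfl⟩
  have n0 : Rt C (Set.range ![i, j]) (C.neg (C.simple i)) := rt_neg ⟨0, rfl⟩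
  have n1 : Rt C (Set.range ![i, j]) (C.neg (C.simple j)) := rt_neg ⟨1, rfl⟩
  have h7 := (C.neg_aut a.1 _).trans (congrArg C.neg h5)
  have h8 := (C.neg_aut a.1 _).trans (congrArg C.neg h6)
  have e1 := h5 ▸ Q.conj hn a p0 (h5.symm ▸ p1)
  have e2 := h6 ▸ Q.conj hn a p1 (h6.symm ▸ p0)
  have e3 := h7 ▸ Q.conj hn a n0 (h7.symm ▸ n1)
  have e4 := h8 ▸ Q.conj hn a n1 (h8.symm ▸ n0)
  have e5 : n * f (tp 0 * tp 1 * tn 1 * tn 0) * n⁻¹ = f (tp 1 * tp 0 * tn 0 * tn 1) := by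
    simp only [map_mul, F.pos, F.neg, cons_val_zero, cons_val_one, ← conj_mul, e1, e2, e3, e4]
  have c1 : ((tp 0 * tp 1 * tn 1 * tn 0 : S2 2)⁻¹).1 = !![1,1,0;1,0,1;0,1,0] := by
    have : (tp 0 * tp 1 * tn 1 * tn 0 : S2 2) * (tn 0 * tn 1 * tp 1 * tp 0) = 1 := Subtype.ext (by decide)
    rw [inv_eq_of_mul_eq_one_right this]
    decide
  have c2 : (tp 1 * tp 0 * tn 0 * tn 1 : S2 2).1 = !![0,1,0;1,0,1;0,1,1] := by decide
  have := congrArg (fun X => trace (X * A'.1)) (sum0 A.1)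
  simp only [Finset.sum_mul, trace_sum, zero_mul, trace_zero] at this
  rw [Finset.sum_congr rfl fun k _ => (?_ : _ = (1 : ZMod 2))] at this
  · revert this; decide
  have := ht ((tp 0 * tp 1 * tn 1 * tn 0) ^ k) ((tp 1 * tp 0 * tn 0 * tn 1) ^ k) (by rw [map_pow, map_pow, ← e5, conj_pow])
  rw [← inv_pow, Matrix.SpecialLinearGroup.coe_pow, Matrix.SpecialLinearGroup.coe_pow, c1, c2,
    trace_mul_comm, ← mul_assoc, ← mul_assoc] at this
  exact this.trans (by decide)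

end CF.Ah.UA
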