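import Cfsg.Agent.Ah.UE0
import Cfsg.Agent.Ah.UA
import Cfsg.Agent.Chev.FusS

/-! Simply laced untwisted groups. -/

set_option autoImplicit false

namespace CF.Ah

open CF.BN CF.Chev CF.Loc Cfsg Cfsg.Lie

section

variable {B ι : Type} [Fintype B] [DecidableEq B] [Fintype ι] [DecidableEq ι]
  {C : ChevBasis B ι} {K : Type*} [Field K] {G : Type*} [Group G] {ρ : StRep C K G}
  {T : Tw ρ} {G1 : Subgroup G} {ω : ι → ℝ} {p : ℕ} [Fact p.Prime] {D : Set B} {a b : G}
  {w : Equiv.Perm ι} {i j : B} {φ : K →+* K} {c : Kˣ}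

namespace UE

/-- two adjacent fixed nodes are not both negated -/
theorem no_adj (S : St 2 T G1 ω a b) (hU : PU 2 G1 a b) (g : Gr T φ c) (hq : Nat.card {t : K // φ t = t} = 2)
    (h1 : C.car i j = -1) (h2 : C.car j i = -1) (h3 : T.p i = i) (h4 : T.p j = j) (hw : w ∈ T.S.Wf)
    (h5 : w (C.simple i) = C.neg (C.simple i)) (h6 : w (C.simple j) = C.neg (C.simple j)) : ¬ Om ρ G1 a b w := by
  have v : C.sref i * C.sref j * C.sref i ∈ T.S.Wf := mul_mem (mul_mem (sref_Wf h3) (sref_Wf h4)) (sref_Wf h3)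
  have := ta S hU g hq h1 h2 h3 h4 (w := C.sref i * C.sref j * C.sref i)
    (mul_mem (mul_mem (C.sref_mem_WJ (by simp)) (C.sref_mem_WJ (by simp))) (C.sref_mem_WJ (by simp))) (mul_mem v hw)
    (by rw [Equiv.Perm.mul_apply, h5, RootSys.neg_aut (Sym.mem_Aut v), (a2_apply h1 h2).1, C.neg_neg])
    (by rw [Equiv.Perm.mul_apply, h6, RootSys.neg_aut (Sym.mem_Aut v), (a2_apply h1 h2).2, C.neg_neg])
  rwa [← mul_assoc, show C.sref i * C.sref j * C.sref i * (C.sref i * C.sref j * C.sref i) = 1 from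
    Equiv.ext fun _ => by simp, one_mul] at this

theorem d4_swap {R : RootSys B ι} {k l : B} {m : Equiv.Perm ι} (ik : R.car i k = 0) (il : R.car i l = 0)
    (kl : R.car k l = 0) (ij : R.car i j = -1 ∧ R.car j i = -1) (kj : R.car k j = -1 ∧ R.car j k = -1)
    (lj : R.car l j = -1 ∧ R.car j l = -1) (am : m ∈ R.Aut) (fi : m (R.simple i) = R.simple i)
    (fj : m (R.simple j) = R.simple j) (fk : m (R.simple k) = R.simple k) (fl : m (R.simple l) = R.simple l)
    (v : Equiv.Perm ι) (hv : v = R.sref l * R.sref k * R.sref j * (R.sref i * R.sref k * R.sref l * m) *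
      (R.sref l * R.sref k * R.sref j)⁻¹) : v (R.simple i) = R.simple j ∧ v (R.simple j) = R.simple i := by
  simp only [hv, mul_inv_rev, R.sref_inv, Equiv.Perm.mul_apply, aut_sref am fj, aut_sref am fk, aut_sref am fl, fi, fj]
  constructor <;> refine R.vec_inj ?_ <;>
    simp [R.vec_sref, A_sref, R.A_simple_simple, R.car_self, ik, il, kl, car_zero ik, car_zero il, car_zero kl, ij, kj,
      lj] <;> abel

theorem car2 (ij : C.car i j = -1 ∧ C.car j i = -1) (s t : Fin 2) : C.car (![i, j] s) (![i, j] t) = (cbA 2).car s t := by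
  rw [cbA_car]
  fin_cases s <;> fin_cases t <;> simp [C.car_self, ij]

theorem car3 {k : B} (ij : C.car i j = -1 ∧ C.car j i = -1) (kj : C.car k j = -1 ∧ C.car j k = -1) (ik : C.car i k = 0)
    (s t : Fin 3) : C.car (![i, j, k] s) (![i, j, k] t) = (cbA 3).car s t := by
  rw [cbA_car]
  fin_cases s <;> fin_cases t <;> simp [C.car_self, ij, kj, ik, car_zero ik]

/-- a set of orthogonal fixed nodes with a simply joined fixed neighbour -/
theorem no_orth (S : St 2 T G1 ω a b) (hU : PU 2 G1 a b) (g : Gr T φ c) (hq : Nat.card {t : K // φ t = t} = 2)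
    (hD : ∀ d ∈ D, T.p d = d) (o : ∀ d ∈ D, ∀ e ∈ D, d ≠ e → C.car d e = 0) (hi : i ∈ D) (hj : T.p j = j)
    (h1 : C.car i j ≠ 0) (hl : ∀ d ∈ D, C.car d j ≠ 0 → C.car d j = -1 ∧ C.car j d = -1) :
    ¬ Om ρ G1 a b (lg C.toRootSys D) := by
  obtain ⟨N, hN⟩ : ∃ N : Set B, ∀ d, d ∈ N ↔ d ∈ D ∧ C.car d j ≠ 0 := ⟨{d | _}, fun _ => Iff.rfl⟩
  have sub : N ⊆ D := fun d h => ((hN d).1 h).1
  have nb : ∀ d ∈ N, C.car d j = -1 ∧ C.car j d = -1 := fun d h => hl d (sub h) ((hN d).1 h).2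
  have oo : ∀ d ∈ D, d ∉ N → ∀ e ∈ N, C.car d e = 0 := fun d h h' e k => o d h e (sub k) fun q => h' (q ▸ k)
  have iN := (hN i).2 ⟨hi, h1⟩
  have hm : lg C.toRootSys (D \ N) ∈ T.S.Wf := (stab_fix fun d h => hD d h.1).lg_mem_Wf
  have f1 : ∀ e ∈ N, lg C.toRootSys (D \ N) (C.simple e) = C.simple e := fun e k =>
    fix_WJ (lg_mem _) fun d h => by rw [C.A_simple_simple, oo d h.1 h.2 e k]
  have f2 : lg C.toRootSys (D \ N) (C.simple j) = C.simple j := fix_WJ (lg_mem _) fun d h => by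
    rw [C.A_simple_simple]
    exact by_contra fun q => h.2 ((hN d).2 ⟨h.1, q⟩)
  rw [lg_split sub oo]
  generalize lg C.toRootSys (D \ N) = m at hm f1 f2
  by_cases c1 : ∃ k ∈ N, k ≠ i
  swap
  · push Not at c1
    refine al S hU g hq le_rfl (car2 (nb i iN)) ?_ (C.WJ_mono (fun d h => Set.mem_range.2 ⟨0, (c1 d h).symm⟩) (lg_mem N))
      (lg_ne_one iN) hm ?_ <;> simp [Fin.forall_fin_succ, hD i hi, hj, f1 i iN, f2]
  obtain ⟨k, kN, ki⟩ := c1
  have ik := o i hi k (sub kN) ki.symm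
  by_cases c2 : ∃ l ∈ N, l ≠ i ∧ l ≠ k
  swap
  · push Not at c2
    refine al S hU g hq (by norm_num) (car3 (nb i iN) (nb k kN) ik) ?_ (C.WJ_mono (fun d h => Set.mem_range.2
      ((em (d = i)).elim (fun q => ⟨0, q.symm⟩) fun q => ⟨2, (c2 d h q).symm⟩)) (lg_mem N)) (lg_ne_one iN) hm ?_ <;>
    simp [Fin.forall_fin_succ, hD i hi, hD k (sub kN), hj, f1 i iN, f1 k kN, f2]
  obtain ⟨l, lN, li, lk⟩ := c2
  have il := o i hi l (sub lN) li.symm
  have kl := o k (sub kN) l (sub lN) lk.symm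
  obtain rfl : N = {i, k, l} := Set.Subset.antisymm (fun n h => by_contra fun q => by
    simp only [Set.mem_insert_iff, Set.mem_singleton_iff, not_or] at q
    exact no_four ik il kl (o i hi n (sub h) (Ne.symm q.1)) (o k (sub kN) n (sub h) (Ne.symm q.2.1))
      (o l (sub lN) n (sub h) (Ne.symm q.2.2)) (nb i iN) (nb k kN) (nb l lN) (nb n h))
    (by rintro _ (rfl | rfl | rfl) <;> assumption)
  rw [lg_three ik il kl]
  have si := sref_Wf (S := T.S) (hD i hi)
  have sk := sref_Wf (S := T.S) (hD k (sub kN))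
  have sl := sref_Wf (S := T.S) (hD l (sub lN))
  have v := mul_mem (mul_mem sl sk) (sref_Wf (S := T.S) hj)
  have e := d4_swap ik il kl (nb i iN) (nb k kN) (nb l lN) (Sym.mem_Aut hm) (f1 i iN) f2 (f1 k kN) (f1 l lN) _ rfl
  refine fun h => ta S hU g hq (nb i iN).1 (nb i iN).2 (hD i hi) hj (one_mem _)
    (mul_mem (mul_mem v (mul_mem (mul_mem (mul_mem si sk) sl) hm)) (inv_mem v)) e.1 e.2 ?_
  rw [one_mul]
  exact h.conj S hU v

omit [Fact p.Prime] in
theorem char_of_card [CharP K p] {n : ℕ} (hn : n.Prime) (h : Nat.card K = n) : p = n := by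
  have : Finite K := Nat.finite_of_card_ne_zero (h ▸ hn.ne_zero)
  have := Fintype.ofFinite K
  exact CharP.eq K ‹_› (charP_of_card_eq_prime (Nat.card_eq_fintype_card.symm.trans h) (hp := ⟨hn⟩))

end UE

open UE

theorem u_sl (S : St p T G1 ω a b) (g : Gr T φ c) (h0 : T.p = 1) (hl : C.SameLen) [Nontrivial B] :
    ¬ PU p G1 a b := by
  have := S.lt.ne
  have := S.lt.char
  have := S.lt.fin
  obtain ⟨θ, hθ⟩ := S.lt.conn.exists_top
  have fx : ∀ i, T.p i = i := fun i => by rw [h0]; rfl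
  refine not_pu S hθ (fun hU D hD ⟨i, hi⟩ h n => ?_) fun x hx _ i h => opp_long S.lt g hθ hx (fx i) (hl _ _) h
  obtain ⟨j, ji, ij⟩ := exists_nb S.lt.conn i
  have cs := car_sl (hl _ _) ji.symm ij
  obtain rfl := (g.triv h0).1
  have cK : Nat.card {t : K // (1 : K →+* K) t = t} = Nat.card K :=
    Nat.card_congr (Equiv.subtypeUnivEquiv fun _ => rfl)
  rcases r2 S hU g (fx i) ⟨j, .inl cs.1⟩ h (neg_fix (fx i) (n i hi)) with q | ⟨q, e⟩
  · obtain rfl : p = 2 := char_of_card Nat.prime_two (cK.symm.trans q)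
    by_cases ad : ∃ d ∈ D, ∃ e ∈ D, d ≠ e ∧ C.car d e ≠ 0
    · obtain ⟨d, hd, e, he, ne, de⟩ := ad
      exact no_adj S hU g q (car_sl (hl _ _) ne de).1 (car_sl (hl _ _) ne de).2 (fx d) (fx e) hD.lg_mem_Wf
        (neg_fix (fx d) (n d hd)) (neg_fix (fx e) (n e he)) h
    · push Not at ad
      exact no_orth S hU g q (fun d _ => fx d) ad hi (fx j) ij
        (fun d hd e => car_sl (hl _ _) (fun r => ij (ad i hi j (r ▸ hd) ji.symm)) e) h
  · have := h_neg_one T.faith (fun z => by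
      obtain rfl : p = 3 := char_of_card Nat.prime_three (cK.symm.trans q)
      exact absurd ((CharP.cast_eq_zero_iff K 3 2).1 z) (by decide)) e j
    rw [cs.1] at this
    exact absurd this (by decide)

end

variable {p : ℕ} [Fact p.Prime] {X : Type*} [Group X]

theorem u_Dp (h : IsPOmegaPlusChar p X) : NoU p X := by
  obtain ⟨K, _, _, _, n, h1, ⟨e⟩⟩ := h
  have h2 : 3 ≤ n := by omega
  have : Nontrivial (Fin n) := Fin.nontrivial_iff_two_le.2 (by omega)
  exact (UE.noU_st (faithful_omRepD K h2) (omRepD_Gp K h2) (connD h2) fun _ _ _ _ S g h s =>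
    u_sl S g h (sameLenD _) s.pu).of_equiv e

theorem UE.u_good {D : ChevalleyDatum} {C : ChevBasis (Fin D.rank) (Fin D.nroots)} (h : Good D C) (hl : C.SameLen)
    (K : Type) [Field K] [Finite K] [CharP K p] : NoU p (D.group K) :=
  have := Fin.nontrivial_iff_two_le.2 h.two_le
  UE.noU_good h K fun _ _ _ _ S g h s => u_sl S g h hl s.pu

variable (K : Type) [Field K] [Fintype K] [CharP K p]

theorem u_E6 : NoU p (chevE6.group K) := UE.u_good goodE6 sameLenE6 K
theorem u_E7 : NoU p (chevE7.group K) := UE.u_good goodE7 sameLenE7 K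
theorem u_E8 : NoU p (chevE8.group K) := UE.u_good goodE8 sameLenE8 K

end CF.Ah
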