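import Cfsg.Agent.Ah.UN0
import Cfsg.Agent.Ah.UR
import Cfsg.Agent.Ah.UA
import Cfsg.Agent.Ah.UU
import Cfsg.Agent.Chev.FusS

/-! Products of conjugacy classes in the groups `²Dₙ(q)` and `²E₆(q)`. -/

set_option autoImplicit false
set_option linter.unusedSectionVars false
set_option linter.style.haveILetI false

namespace CF.Ah

open CF.BN CF.Chev CF.Loc Cfsg Cfsg.Lie

namespace UN

variable {B ι : Type} [Fintype B] [DecidableEq B] [Fintype ι] [DecidableEq ι]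
  {C : ChevBasis B ι} {K : Type*} [Field K] {G : Type*} [Group G] {ρ : StRep C K G}
  {T : Tw ρ} {G1 : Subgroup G} {ω : ι → ℝ} {p : ℕ} [Fact p.Prime] {D : Set B} {a b : G}
  {w : Equiv.Perm ι} {i j : B} {φ : K →+* K} {c : Kˣ}

theorem q2 (S : St p T G1 ω a b) (hU : PU p G1 a b) (g : Gr T φ c) (h1 : T.p i = i) (h2 : C.car i j = -1)
    (h : Om ρ G1 a b w) (hw : w (C.simple i) = C.neg (C.simple i)) : Nat.card {t : K // φ t = t} = 2 := by
  haveI := S.lt.fin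
  refine (r2 S hU g h1 ⟨j, .inl h2⟩ h hw).resolve_right fun ⟨e, k⟩ => ?_
  have q : (3 : K) = 0 := by simpa [e] using cast_card φ
  have := h_neg_one T.faith (fun c => one_ne_zero (α := K) (by linear_combination q - c)) k j
  rw [h2] at this
  exact absurd this (by decide)

theorem p2 (M : LT p T G1 ω) (h : Nat.card {t : K // φ t = t} = 2) : p = 2 :=
  haveI := M.fin
  haveI := M.char
  (Nat.prime_dvd_prime_iff_eq Fact.out Nat.prime_two).1 ((CharP.cast_eq_zero_iff K p 2).1 (h ▸ cast_card φ))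

theorem flip (S : St p T G1 ω a b) (hU : PU p G1 a b) (g : Gr T φ c) (h7 : ∀ i, T.p (T.p i) = i)
    (h0 : T.p i ≠ i → C.car i (T.p i) = 0) (hw : w ∈ T.S.Wf) (h : Om ρ G1 a b w) (n : Neg T w i) :
    w (C.simple i) = C.neg (C.simple (T.p i)) := by
  by_cases e : T.p i = i
  · simpa [e] using neg_cases n h7 h0
  · exact (neg_cases n h7 h0).resolve_left (ko S.lt g e (fun j hj c =>
      ((mem_orb_of_invol h7).1 hj).resolve_left c ▸ h0 e) hw (h.kw S hU))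

theorem no_ul (S : St 2 T G1 ω a b) (hU : PU 2 G1 a b) (g : Gr T φ c) (hq : Nat.card K = 4) {l : ℕ}
    (hl : l = 3 ∨ l = 4) {e : Fin l → B} (h1 : ∀ s t, C.car (e s) (e t) = (cbA l).car s t)
    (h2 : ∀ s, T.p (e s) = e s.rev) (hw : w ∈ T.S.Wf) (h3 : ∀ s, w (C.simple (e s)) = C.neg (C.simple (e s.rev))) :
    ¬ Om ρ G1 a b w := fun h => by
  have s : T.S.Stab (Set.range e) := fun i => ⟨fun ⟨s, q⟩ => ⟨s.rev, T.p.injective (by
    rw [h2, Fin.rev_rev]; exact q)⟩, by rintro ⟨s, rfl⟩; exact ⟨_, (h2 s).symm⟩⟩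
  refine ul S hU g hq hl h1 h2 ⟨lg_mem _, s.lg_mem_Wf⟩ (lg_ne_one ⟨⟨0, by omega⟩, rfl⟩) (mul_mem s.lg_mem_Wf hw)
    (fun s => ?_) (by rwa [← mul_assoc, lg_mul_self, one_mul])
  rw [Equiv.Perm.mul_apply, h3, RootSys.neg_aut (lg_mem_Aut _), lgA (.inr hl) h1, C.neg_neg, Fin.rev_rev]

theorem core (S : St p T G1 ω a b) (g : Gr T φ c) (hl : C.SameLen) (h5 : ∀ t, φ (φ t) = t) (h6 : φ ≠ 1)
    (h7 : ∀ i, T.p (T.p i) = i) (h0 : ∀ i, T.p i ≠ i → C.car i (T.p i) = 0) (nb : ∀ i, ∃ j, C.car i j = -1)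
    {l : ℕ} (l2 : 2 ≤ l) {e : Fin l → B} (e1 : ∀ s t, C.car (e s) (e t) = (cbA l).car s t)
    (e2 : ∀ i, T.p i = i ↔ ∃ s, e s = i) {f : Fin 3 → B} (f1 : ∀ s t, C.car (f s) (f t) = (cbA 3).car s t)
    (f2 : ∀ s, T.p (f s) = f s.rev)
    (cn : ∀ D, T.S.Stab D → ∀ i ∈ D, T.p i ≠ i → (∀ s, f s ∈ D) ∨
      ∃ I : Set B, i ∈ I ∧ T.p i ∉ I ∧ ∀ k ∈ D, k ∉ I → ∀ l ∈ I, C.car k l = 0)
    (op : ∀ i, T.p i ≠ i → ∃ j k, T.p j ≠ j ∧ T.p k = k ∧ C.car j k = -1 ∧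
      (j = i ∨ C.car i j = -1 ∧ C.car j i = -1 ∧ C.car j (T.p i) = 0 ∧ C.car i (T.p j) = 0)) : ¬ PU p G1 a b := by
  haveI := S.lt.fin
  haveI := S.lt.ne
  obtain ⟨θ, hθ⟩ := S.lt.conn.exists_top
  refine not_pu S hθ (fun hU D s ⟨i, hi⟩ h n => ?_) fun x hx hp i h => ?_
  · have k : ∀ i ∈ D, lg C.toRootSys D (C.simple i) = C.neg (C.simple (T.p i)) := fun i hi =>
      flip S hU g h7 (h0 i) s.lg_mem_Wf h (n i hi)
    have q : ∀ i ∈ D, T.p i = i → Nat.card {t : K // φ t = t} = 2 := fun i hi e =>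
      let ⟨_, m⟩ := nb i; q2 S hU g e m h (by rw [k i hi, e])
    by_cases m : ∀ i ∈ D, T.p i = i
    · have q := q i hi (m i hi)
      obtain rfl := p2 S.lt q
      exact al S hU g q l2 e1 (fun s => (e2 _).2 ⟨s, rfl⟩) (C.WJ_mono (fun i hi => (e2 i).1 (m i hi)) (lg_mem D))
        (lg_ne_one hi) (one_mem _) (fun _ => rfl) (by rwa [mul_one])
    · push Not at m
      obtain ⟨i, hi, m⟩ := m
      rcases cn D s i hi m with u | ⟨I, u1, u2, u3⟩
      · have q := q _ (u 1) (f2 1)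
        obtain rfl := p2 S.lt q
        exact no_ul S hU g (card_four h5 h6 q) (.inl rfl) f1 f2 s.lg_mem_Wf (fun s => by rw [k _ (u s), f2]) h
      · have := inSub_of_orth u3 (lg_mem D) (C.inSub_simple.2 u1)
        rw [k i hi, C.inSub_neg, C.inSub_simple] at this
        exact u2 this
  · by_cases e : T.p i = i
    · exact opp_long S.lt g hθ hx e (hl _ _) h
    obtain ⟨j, k, u1, u2, u3, u⟩ := op i e
    refine b2t3 S.lt g hl hθ u1 (h7 j) u2 u3 (h0 j u1) hx hp ?_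
    rcases u with rfl | ⟨v1, v2, v3, v4⟩
    · exact h
    · exact a2 S.lt g v1 v2 (fun _ m c => ((mem_orb_of_invol h7).1 m).resolve_left c ▸ ⟨h0 i e, v3⟩)
        (fun _ m c => ((mem_orb_of_invol h7).1 m).resolve_left c ▸ ⟨h0 j u1, v4⟩) hx hp h

end UN

variable {p : ℕ} [Fact p.Prime] {X : Type*} [Group X]

theorem u_Dm (h : IsPOmegaMinusChar p X) : NoU p X := by
  obtain ⟨F, _, _, _, m, a, b, hm, hab, ⟨e⟩⟩ := h
  obtain ⟨K, _, _, f, φ, w, h1, h2, h3, h4, h5⟩ := exists_quadExt hab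
  have : CharP K p := charP_of_injective_ringHom f.injective p
  obtain ⟨n, rfl⟩ : ∃ n, m = n + 1 := ⟨m - 1, by omega⟩
  have hQ (v) : Geom.qMinus n K (-(w + φ w)) (w * φ w) (f ∘ v) = f (Geom.qMinus n F a b v) := by
    rw [h4, h5, qMinus_comp]
  have hn : 2 ≤ n := by omega
  obtain ⟨M, h6⟩ := lt0O' h1 h2 hn hab h3 hQ (p := p)
  have h7 : φ ≠ 1 := fun e => h2 (by rw [e]; rfl)
  have hp : (twQuot (twO h1 h2 hn)).p = pD n := rfl
  have h8 : ∀ i, pD n (pD n i) = i := fun _ => Equiv.swap_apply_self _ _ _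
  refine noU_of (e.trans (M.nonempty_equiv (MonoidHom.ofInjective (omMap_injective hQ)).symm).some)
    fun x hx y hy x1 y1 s => UN.core (c := 1) (l := n - 1) (e := fun s => ⟨s, by omega⟩)
      (f := ![⟨n - 1, by omega⟩, ⟨n - 2, by omega⟩, ⟨n, by omega⟩])
      ⟨M.quot (le_sup_of_le_left h6), StRep.center_quot (twO h1 h2 hn).faith (twO h1 h2 hn).top, hx, hy, x1, y1⟩
      (UN.gr_of (fun _ => rfl) (fun _ => rfl) (one_mul 1) (fun i j => ?_) h1 h7 h8 fun e => ?_)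
      (sameLenD _) h1 h7 h8 (fun i => ?_) (fun i => ?_) (by omega) (fun s t => ?_) (fun i => ?_) (fun s t => ?_)
      (fun s => ?_) (fun D s i hi e => ?_) (fun i e => ?_) s.pu
  · simp only [hp, cbD_car, Fin.ext_iff, val_pD hn]
    split_ifs <;> omega
  · have := congrArg (fun q : Equiv.Perm (Fin (n + 1)) => (q (Fin.last n)).val) e
    simp [hp, val_pD hn] at this
    omega
  · simp only [hp, cbD_car, Ne, Fin.ext_iff, val_pD hn]
    split_ifs <;> omega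
  · by_cases c : i.val + 1 < n
    · exact ⟨⟨i + 1, by omega⟩, by simp [cbD_car, Fin.ext_iff, c.ne]⟩
    · exact ⟨⟨n - 2, by omega⟩, by simp only [cbD_car, Fin.ext_iff]; split_ifs <;> omega⟩
  · simp only [cbD_car, cbA_car, Fin.ext_iff]
    split_ifs <;> omega
  · simp only [hp, Fin.ext_iff, val_pD hn]
    exact ⟨fun e => ⟨⟨i, by split_ifs at e <;> omega⟩, rfl⟩, fun ⟨s, e⟩ => by split_ifs <;> omega⟩
  · fin_cases s <;> fin_cases t <;> simp [cbD_car, cbA_car, Fin.ext_iff] <;> omega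
  · fin_cases s <;> simp [hp, Fin.ext_iff, val_pD hn] <;> (try split_ifs) <;> omega
  · have pi : pD n i ∈ D := (s i).2 hi
    by_cases c : (⟨n - 2, by omega⟩ : Fin (n + 1)) ∈ D
    · refine .inl fun s => ?_
      simp only [hp, Ne, Fin.ext_iff, val_pD hn] at e
      fin_cases s
      · by_cases q : i.val = n
        · convert pi using 1; simp [Fin.ext_iff, val_pD hn, q]
        · convert hi using 1; simp only [Fin.ext_iff]; split_ifs at e <;> simp <;> omega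
      · exact c
      · by_cases q : i.val = n
        · convert hi using 1; simp [Fin.ext_iff, q]
        · convert pi using 1; simp only [Fin.ext_iff, val_pD hn]; split_ifs at e ⊢ <;> simp <;> omega
    · refine .inr ⟨{i}, rfl, e, fun k hk k1 l k2 => ?_⟩
      have : k ≠ ⟨n - 2, by omega⟩ := fun q => c (q ▸ hk)
      simp only [hp, cbD_car, Set.mem_singleton_iff, Ne, Fin.ext_iff, val_pD hn] at *
      split_ifs at * <;> omega
  · refine ⟨i, ⟨n - 2, by omega⟩, e, ?_, ?_, .inl rfl⟩ <;>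
      simp only [hp, cbD_car, Ne, Fin.ext_iff, val_pD hn] at * <;> split_ifs at * <;> omega

theorem u_2E6 (K : Type) [Field K] [Fintype K] [CharP K p] {q : ℕ} (hq : IsPrimePow q) (hK : Fintype.card K = q ^ 2) :
    NoU p (twistedE6 K q) := by
  obtain ⟨φ, h1, h2⟩ := exists_frobE6 hq hK
  have hp : (twE6 φ).p = pE6 := (isGr_twE6 φ).p_eq
  have h7 : φ ≠ 1 := fun e => by
    have d := (FiniteField.forall_pow_eq_one_iff K (q - 1)).1 fun x => Units.ext (mul_right_cancel₀ x.ne_zero (by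
      rw [Units.val_pow_eq_pow_val, ← pow_succ, Nat.sub_add_cancel hq.one_lt.le, ← h1, e]; simp))
    have := Nat.le_of_dvd (by have := hq.one_lt; omega) d
    have := hq.one_lt
    have : q * 2 ≤ q ^ 2 := by nlinarith
    omega
  refine noU_of (packE6 h1 h2).e fun x hx y hy x1 y1 s => UN.core (c := 1) (e := ![1, 3]) (f := ![2, 3, 4])
    ⟨ltE6 h1 h2, (packE6 h1 h2).center, hx, hy, x1, y1⟩
    (UN.gr_of (isGr_twE6 φ).φ_eq (isGr_twE6 φ).c_eq (one_mul 1) ?_ h2 h7 ?_ ?_) sameLenE6 h2 h7 ?_ ?_ ?_ le_rfl ?_ ?_ ?_ ?_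
    (fun D s i hi e => ?_) ?_ s.pu
  any_goals simp only [hp, carE6', cbA_car]; decide
  have st : ∀ i, pE6 i ∈ D ↔ i ∈ D := hp ▸ s
  rw [hp] at e ⊢
  simp only [carE6']
  by_cases c3 : 3 ∈ D
  · by_cases c2 : 2 ∈ D
    · exact .inl fun s => by fin_cases s; exacts [c2, c3, (st 2).2 c2]
    · refine .inr ⟨{i}, rfl, e, fun k hk k1 l k2 => ?_⟩
      obtain rfl : l = i := k2
      have a : ∀ k ∈ D, k ≠ 2 ∧ k ≠ 4 := fun k hk => ⟨fun q => c2 (q ▸ hk), fun q => c2 ((st 2).1 (by subst q; exact hk))⟩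
      exact (by decide : ∀ k l : Fin 6, pE6 l ≠ l → k ≠ l → k ≠ 2 ∧ k ≠ 4 → l ≠ 2 ∧ l ≠ 4 →
        (cmE6.getD k []).getD l 0 = 0) k l e k1 (a k hk) (a l hi)
  · refine .inr ⟨{j | j ≠ 1 ∧ (j < 3 ↔ i < 3) ∧ j ≠ 3}, ?_, ?_, fun k hk k1 l k2 => ?_⟩
    · clear hi; revert i; decide
    · clear hi; revert i; decide
    · exact (by decide : ∀ i k l : Fin 6, k ≠ 3 → ¬ (k ≠ 1 ∧ (k < 3 ↔ i < 3) ∧ k ≠ 3) →
        l ≠ 1 ∧ (l < 3 ↔ i < 3) ∧ l ≠ 3 → (cmE6.getD k []).getD l 0 = 0) i k l (fun q => c3 (q ▸ hk)) k1 k2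

end CF.Ah
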