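import Cfsg.Agent.Ah.UN

/-! Products of conjugacy classes in the unitary groups. -/

set_option autoImplicit false
set_option linter.unusedSectionVars false
set_option linter.style.haveILetI false

namespace CF.Ah

open CF.BN CF.Chev CF.Loc Cfsg Cfsg.Lie

namespace UT

section
variable {B ι : Type} [Fintype B] [DecidableEq B] [Fintype ι] [DecidableEq ι]
  {C : ChevBasis B ι} {K : Type*} [Field K] {G : Type*} [Group G] {ρ : StRep C K G}
  {T : Tw ρ} {G1 : Subgroup G} {ω : ι → ℝ} {p : ℕ} [Fact p.Prime] {w : Equiv.Perm ι} {i j i' j' : B}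

theorem kw2 (M : LT p T G1 ω) (hw : w ∈ T.S.Wf) (h : Kw ρ G1 w) (h1 : C.car i j = -1) (h2 : C.car j i = -1)
    (e : w (C.simple i) = C.neg (C.simple j)) {t u : Kˣ} (m : ρ.h (C.simple i) t * ρ.h (C.simple j) u ∈ G1) :
    t * u = 1 := by
  obtain ⟨n, hn, a⟩ := M.form.exists_n hw
  obtain ⟨c, hc⟩ := a.acts.exists_conj_x (C.simple i)
  have k : ∀ s v, ρ.h (C.simple i) t * ρ.h (C.simple j) u * ρ.x s v * (ρ.h (C.simple i) t * ρ.h (C.simple j) u)⁻¹ =
      ρ.x s ((t ^ C.A (C.simple i) s : Kˣ) * ((u ^ C.A (C.simple j) s : Kˣ) * v)) := fun s v => by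
    rw [← ρ.h_conj_x, ← ρ.h_conj_x]; group
  have q := (h n hn a _ ⟨mul_mem (ρ.h_mem_H _ _) (ρ.h_mem_H _ _), m⟩).eq
  generalize ρ.h (C.simple i) t * ρ.h (C.simple j) u = g at k q
  have : g * (n * ρ.x (C.simple i) 1 * n⁻¹) * g⁻¹ = n * (g * ρ.x (C.simple i) 1 * g⁻¹) * n⁻¹ := by
    rw [← mul_assoc, ← mul_assoc, ← q, mul_assoc _ n⁻¹, ← mul_inv_rev, ← q]; group
  rw [k, hc, hc, k, e] at this
  have := T.faith.x_injective _ this
  simp only [C.A_neg_right, C.A_simple_simple, C.car_self, h1, h2] at this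
  simp [zpow_ofNat] at this
  field_simp at this
  exact Units.ext this.symm

theorem mid (hw : w ∈ C.Aut) (n : j ≠ j') (h : C.InSub {j, j'} (w (C.simple j))) (e : w (C.simple i) = C.neg (C.simple i'))
    (e' : w (C.simple i') = C.neg (C.simple i)) (h1 : C.car i j = -1) (h2 : C.car i j' = 0) (h3 : C.car i' j = 0)
    (h4 : C.car i' j' = -1) : w (C.simple j) = C.neg (C.simple j') := by
  have k : ∀ l, C.A (C.simple l) (w (C.simple j)) =
      C.car l j * C.vec (w (C.simple j)) j + C.car l j' * C.vec (w (C.simple j)) j' := fun l => by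
    rw [C.A_simple, C.sp_apply]
    exact Finset.sum_eq_add j j' n (fun c _ m => by rw [h c (by simpa using m), mul_zero]) (by simp) (by simp)
  have a := RootSys.A_aut hw (C.simple i) (C.simple j)
  have b := RootSys.A_aut hw (C.simple i') (C.simple j)
  rw [e, C.A_neg_left, k, C.A_simple_simple, h1, h3, h4] at a
  rw [e', C.A_neg_left, k, C.A_simple_simple, h1, h2, h3] at b
  refine C.eq_neg_of_vec (funext fun l => ?_)
  rw [C.vec_simple, Pi.neg_apply, Pi.single_apply]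
  split_ifs with c
  · subst c; omega
  · by_cases d : l = j
    · subst d; omega
    · exact h l (by simp [c, d])

end

variable {n : ℕ} {K : Type*} [Field K] {G : Type*} [Group G] {ρ : StRep (cbA n) K G}
  {T : Tw ρ} {G1 : Subgroup G} {ω : RtA n → ℝ} {p : ℕ} [Fact p.Prime] {a b x : G} {φ : K →+* K} {c : Kˣ} {θ : RtA n}

theorem opp (M : LT p T G1 ω) (g : Gr T φ c) (hp : ∀ i, T.p i = i.rev) (hθ : (cbA n).Top θ) (hx : x ∈ G1) (e : PE p x)
    (i : Fin n) (h : WA ρ G1 x (T.S.s i)) : Opp p ρ G1 θ x := by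
  have h7 : ∀ i, T.p (T.p i) = i := fun i => by rw [hp, hp, Fin.rev_rev]
  have u : ∀ (i : Fin n) (P : Fin n → Prop), P i.rev → ∀ j ∈ T.S.orb i, j ≠ i → P j := fun i P h j m c => by
    rwa [((mem_orb_of_invol h7).1 m).resolve_left c, show T.S.p i = _ from hp i]
  have k : ∀ d, ∀ i : Fin n, n = 2 * i + d + 1 → WA ρ G1 x (T.S.s i) → Opp p ρ G1 θ x := fun d => by
    induction d using Nat.strong_induction_on with | _ d ih => ?_
    intro i q h
    obtain rfl | rfl | rfl | rfl | d4 : d = 0 ∨ d = 1 ∨ d = 2 ∨ d = 3 ∨ 4 ≤ d := by omega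
    · exact opp_long M g hθ hx (by simp [hp, Fin.ext_iff]; omega) (sameLen_cbA _ _) h
    · exact opp_su3 M g hθ sameLen_cbA hx (h7 i) (by simp [hp, cbA_car, Fin.ext_iff]; omega) h
    · refine b2t3 (j := ⟨i + 1, by omega⟩) M g sameLen_cbA hθ ?_ (h7 i) ?_ ?_ ?_ hx e h <;>
        simp [hp, cbA_car, Fin.ext_iff] <;> omega
    · refine b2t4 (j := ⟨i + 1, by omega⟩) M g sameLen_cbA hθ ?_ (h7 i) ?_ ?_ ?_ ?_ hx e h <;>
        simp [hp, cbA_car, Fin.ext_iff] <;> omega
    · refine ih (d - 2) (by omega) ⟨i + 1, by omega⟩ (by simp; omega) (a2 M g ?_ ?_ (u _ _ ?_) (u _ _ ?_) hx e h) <;>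
        simp [cbA_car, Fin.ext_iff] <;> omega
  by_cases c : 2 * i.val + 1 ≤ n
  · exact k (n - 2 * i - 1) i (by omega) h
  · refine k (n - 2 * i.rev - 1) i.rev (by rw [Fin.val_rev]; omega) ?_
    rwa [Sym.s, T.S.orb_eq_of_mem ((mem_orb_of_invol h7).2 (.inr (hp i).symm))]

theorem core (S : St p T G1 ω a b) (g : Gr T φ c) (hp : ∀ i, T.p i = i.rev) (h5 : ∀ t, φ (φ t) = t) (h6 : φ ≠ 1)
    (hn : 2 ≤ n) (h4 : Nat.card K = 4 → 3 ≤ n) (tor : ∀ i j : Fin n, i.val + 1 = j → j = i.rev →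
      (∀ t u : Kˣ, ρ.h ((cbA n).simple i) t * ρ.h ((cbA n).simple j) u ∈ G1 → t * u = 1) → Nat.card K = 4) :
    ¬ PU p G1 a b := by
  haveI := S.lt.fin
  haveI := S.lt.ne
  haveI := S.lt.char
  obtain ⟨θ, hθ⟩ := S.lt.conn.exists_top
  have h7 : ∀ i, T.p (T.p i) = i := fun i => by rw [hp, hp, Fin.rev_rev]
  refine not_pu S hθ (fun hU D s ⟨i, hi⟩ h m => ?_) fun x hx e => opp S.lt g hp hθ hx e
  have st : ∀ i ∈ D, i.rev ∈ D := fun i hi => hp i ▸ (s i).2 hi
  have k : ∀ i ∈ D, 2 * i.val + 2 ≠ n → 2 * i.val ≠ n →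
      lg (cbA n).toRootSys D ((cbA n).simple i) = (cbA n).neg ((cbA n).simple i.rev) := fun i hi c d =>
    hp i ▸ UN.flip S hU g h7 (by simp [hp, cbA_car, Fin.ext_iff]; omega) s.lg_mem_Wf h (m i hi)
  have seg : ∀ i ∈ D, ∀ j : Fin n, i ≤ j → j ≤ i.rev → j ∈ D := fun i hi j c d => by_contra fun q => by
    have n1 : j ≠ i := fun e => q (e ▸ hi)
    have n2 : j ≠ i.rev := fun e => q (e ▸ st i hi)
    have := UN.inSub_of_orth (R := (cbA n).toRootSys) (I := {l | l < j}) (fun k hk k1 l k2 => by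
      have : k ≠ j := fun e => q (e ▸ hk)
      simp only [cbA_car, Set.mem_ofPred_eq, Fin.ext_iff, Fin.lt_def, Ne] at *
      split_ifs <;> omega) (lg_mem D) ((cbA n).inSub_simple.2 (show i < j from lt_of_le_of_ne c n1.symm))
    simp only [Fin.le_def, Fin.ext_iff, Ne, Fin.val_rev] at c d n1 n2
    rw [k i hi (by omega) (by omega), RootSys.inSub_neg, RootSys.inSub_simple] at this
    simp only [Set.mem_ofPred_eq, Fin.lt_def, Fin.val_rev] at this
    omega
  have sg : ∀ i ∈ D, ∀ j : Fin n, i ≤ j ∧ j ≤ i.rev ∨ i.rev ≤ j ∧ j ≤ i → j ∈ D := fun i hi j c =>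
    c.elim (fun c => seg i hi j c.1 c.2) fun c => seg _ (st i hi) j c.1 (by rw [Fin.rev_rev]; exact c.2)
  have fl : ∀ i ∈ D, lg (cbA n).toRootSys D ((cbA n).simple i) = (cbA n).neg ((cbA n).simple i.rev) := by
    have u : ∀ j ∈ D, 2 * j.val + 2 = n →
        lg (cbA n).toRootSys D ((cbA n).simple j) = (cbA n).neg ((cbA n).simple j.rev) := fun j hj c => by
      by_cases d : ∀ i ∈ D, i = j ∨ i = j.rev
      · rw [show D = Set.range ![j, j.rev] from Set.ext fun i => ⟨fun hi => by simpa [or_comm] using d i hi, by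
          rintro ⟨s, rfl⟩; fin_cases s; exacts [hj, st j hj]⟩]
        exact UN.lgA (.inl rfl) (fun s t => by fin_cases s <;> fin_cases t <;> simp [cbA_car, Fin.ext_iff] <;> omega) 0
      · push Not at d
        obtain ⟨l, hl, d⟩ := d
        simp only [Ne, Fin.ext_iff, Fin.val_rev] at d
        have o : (⟨j - 1, by omega⟩ : Fin n) ∈ D := sg l hl _ (by simp only [Fin.le_def, Fin.val_rev]; omega)
        refine mid (lg_mem_Aut D) ?_ (by
          have := (m j hj).1
          rwa [show T.S.orb j = {j, j.rev} from Set.ext fun _ => (mem_orb_of_invol h7).trans (by simp [Tw.S, hp])] at this)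
          (k _ o ?_ ?_) (by simpa using k _ (st _ o) (by simp; omega) (by simp; omega)) ?_ ?_ ?_ ?_ <;>
          simp [cbA_car, Fin.ext_iff] <;> omega
    intro i hi
    by_cases c : 2 * i.val + 2 = n
    · exact u i hi c
    by_cases d : 2 * i.val = n
    · rw [← Fin.rev_rev i, ← lg_lg D ((cbA n).neg _), RootSys.neg_aut (lg_mem_Aut D), Fin.rev_rev,
        u _ (st i hi) (by simp; omega), RootSys.neg_neg, Fin.rev_rev]
    · exact k i hi c d
  have q : Nat.card K = 4 := by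
    have o : (⟨(n - 1) / 2, by omega⟩ : Fin n) ∈ D := sg i hi _ (by simp only [Fin.le_def, Fin.val_rev]; omega)
    obtain ⟨r, c | c⟩ := Nat.even_or_odd' n
    · exact tor _ _ (by simp; omega) rfl fun t u => kw2 S.lt s.lg_mem_Wf (h.kw S hU)
        (by simp [cbA_car, Fin.ext_iff]; omega) (by simp [cbA_car, Fin.ext_iff]; omega) (fl _ o)
    · have e : (⟨(n - 1) / 2, by omega⟩ : Fin n).rev = ⟨(n - 1) / 2, by omega⟩ := by simp [Fin.ext_iff]; omega
      exact UN.card_four h5 h6 (UN.q2 (j := ⟨(n - 1) / 2 + 1, by omega⟩) S hU g ((hp _).trans e)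
        (by simp [cbA_car, Fin.ext_iff]) h (by rw [fl _ o, e]))
  obtain rfl : p = 2 := by
    haveI := Fintype.ofFinite K
    refine (Nat.prime_dvd_prime_iff_eq Fact.out Nat.prime_two).1 ((Fact.out : p.Prime).dvd_of_dvd_pow (n := 2) ?_)
    rw [← CharP.cast_eq_zero_iff K, show 2 ^ 2 = Nat.card K from q.symm, Nat.card_eq_fintype_card]
    exact FiniteField.cast_card_eq_zero K
  have := h4 q
  obtain ⟨l, r, hl, c⟩ : ∃ l r, (l = 3 ∨ l = 4) ∧ n = 2 * r + l := ⟨4 - n % 2, (n - 3) / 2, by omega, by omega⟩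
  let e : Fin l → Fin n := fun s => ⟨r + s, by omega⟩
  have e1 : ∀ s t, (cbA n).car (e s) (e t) = (cbA l).car s t := fun s t => by
    simp only [cbA_car, e, Fin.ext_iff]
    split_ifs <;> omega
  have e2 : ∀ s, (e s).rev = e s.rev := fun s => by simp [e, Fin.ext_iff]; omega
  by_cases d : D ⊆ Set.range e
  · exact ul S hU g q hl e1 (fun s => (hp _).trans (e2 s)) ⟨RootSys.WJ_mono _ d (lg_mem D), s.lg_mem_Wf⟩ (lg_ne_one hi)
      (one_mem _) (fun _ => rfl) (by rwa [mul_one])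
  · obtain ⟨j, hj, d⟩ := Set.not_subset.1 d
    have d : j.val < r ∨ r + l ≤ j := by
      by_contra! c
      exact d ⟨⟨j - r, by omega⟩, by simp [e, Fin.ext_iff]; omega⟩
    exact UN.no_ul S hU g q hl e1 (fun s => (hp _).trans (e2 s)) s.lg_mem_Wf (fun s => by
      rw [fl _ (sg j hj _ (by simp only [e, Fin.le_def, Fin.val_rev]; omega)), e2]) h

end UT

variable {p : ℕ} [Fact p.Prime] {X : Type*} [Group X]

theorem u_SU (h : IsPSUChar p X) : NoU p X := by
  obtain ⟨K, _, _, _, n, q, hK, h1, h2, ⟨e⟩⟩ := h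
  obtain ⟨n, rfl⟩ : ∃ m, n = m + 1 := ⟨n - 1, by omega⟩
  obtain ⟨φ, h3, h4, h5⟩ := Geom.exists_conj hK
  have h6 : 1 ≤ n := by omega
  have M := lt0U h6 hK h3 h4 h5 (p := p)
  have q2 := Geom.two_le_of_card_eq_sq hK
  refine noU_of (e.trans (M.nonempty_equiv (nonempty_SU_equiv hK h3 h5 h6).some).some)
    fun x hx y hy x1 y1 s => UT.core (c := -1) ⟨M.quot (le_sup_of_le_left (genU h6 hK h3 h4 h5 (by omega) h2)),
      StRep.center_quot (twU h6 φ).faith (twU h6 φ).top, hx, hy, x1, y1⟩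
      (UN.gr_of (fun _ => rfl) (fun _ => rfl) (by simp) (fun i j => ?_) h5 h4 Fin.rev_rev fun e => ?_) (fun _ => rfl) h5 h4
      (by omega) (fun e => ?_) (fun i j c d k => ?_) s.pu
  · change (cbA n).car i.rev j.rev = _
    simp only [cbA_car, Fin.ext_iff, Fin.val_rev]
    split_ifs <;> omega
  · have : (⟨0, h6⟩ : Fin n).rev = ⟨0, h6⟩ := congrArg (fun q : Equiv.Perm (Fin n) => q ⟨0, h6⟩) e
    simp [Fin.ext_iff] at this
    omega
  · rw [Nat.card_eq_fintype_card, hK] at e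
    have : q = 2 := by nlinarith
    omega
  · have := (FiniteField.forall_pow_eq_one_iff K (q + 1)).1 fun t => by
      have := k t (Units.map (φ : K →* K) t) ⟨(slRep n K).h ((cbA n).simple i) t *
          (slRep n K).h ((cbA n).simple j) (Units.map (φ : K →* K) t), show _ ∈ (twU h6 φ).Fix from by
        have r := r3_slRep n K
        rw [Tw.mem_Fix, map_mul, Tw.σ_h, Tw.σ_h, r.h_inv, r, r.h_inv, r, mul_inv_cancel_comm, mul_inv_cancel_comm,
          Tw.π_simple, Tw.π_simple, (r.commute_h (StRep.h_mem_H _ _ _) _ _).eq]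
        congr 2
        · rw [d]; exact congrArg _ (Fin.rev_rev i)
        · exact Units.ext (h5 t)
        · rw [d]; rfl, by simp⟩
      exact Units.ext (by simpa [h3, pow_succ'] using congrArg Units.val this)
    have := Nat.le_of_dvd (by omega) this
    rw [Nat.card_eq_fintype_card, hK] at *
    obtain rfl : q = 2 := by
      by_contra c
      have : q * 3 ≤ q ^ 2 := by rw [sq]; exact Nat.mul_le_mul_left q (by omega)
      omega
    rfl

end CF.Ah
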